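import Groth.Agent.HyperellLib.Charts
import Groth.Agent.Lib.AmpleEmbed
import Groth.Agent.QCoh.LocFree
import Mathlib.LinearAlgebra.FreeModule.PID
import Mathlib.RingTheory.IntegralClosure.IntegrallyClosed

/-!
Double covers of the projective line by a smooth curve: the hyperelliptic equation.
-/

set_option linter.style.haveILetI false
set_option linter.unusedSectionVars false
set_option backward.isDefEq.respectTransparency false
set_option backward.isDefEq.respectTransparency.types false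

universe u

open CategoryTheory CategoryTheory.Limits AlgebraicGeometry TopologicalSpace Opposite
attribute [local instance] Curv2.stalkAlgebra

noncomputable section

namespace Groth.Agent.HyperellLib

open Groth.Agent Groth.Agent.H23

theorem isUnit_of_map {R A : Type*} [CommRing R] [CommRing A] [Algebra R A] [Algebra.IsIntegral R A]
    [FaithfulSMul R A] {d : R} (h : IsUnit (algebraMap R A d)) : IsUnit d :=
  haveI := Algebra.IsIntegral.isLocalHom (R := R) (S := A)
  (isUnit_map_iff (algebraMap R A) d).1 h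

/-- A finite free algebra of rank two over a principal ideal domain has a basis containing `1`. -/
theorem exists_one_generator {R A : Type*} [CommRing R] [IsDomain R] [IsPrincipalIdealRing R] [CommRing A]
    [Algebra R A] [Module.Free R A] [Module.Finite R A] [FaithfulSMul R A] (h2 : Module.finrank R A = 2) :
    ∃ y : A, (∀ a : A, ∃ p r : R, algebraMap R A p + algebraMap R A r * y = a) ∧
      ∀ p r : R, algebraMap R A p + algebraMap R A r * y = 0 → p = 0 ∧ r = 0 := by
  let b := Module.finBasisOfFinrankEq R A h2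
  have hsum : ∀ a : A, a = algebraMap R A (b.repr a 0) * b 0 + algebraMap R A (b.repr a 1) * b 1 := fun a => by
    conv_lhs => rw [← b.sum_repr a]
    simp [Fin.sum_univ_two, Algebra.smul_def]
  set p := b.repr 1 0
  set r := b.repr 1 1
  have hone : (1 : A) = algebraMap R A p * b 0 + algebraMap R A r * b 1 := hsum 1
  obtain ⟨d, hd⟩ : ∃ d, Ideal.span {p, r} = Ideal.span {d} :=
    ⟨_, (Submodule.IsPrincipal.span_singleton_generator (Ideal.span {p, r})).symm⟩
  obtain ⟨p', hp'⟩ := Ideal.mem_span_singleton'.1 (hd ▸ Ideal.subset_span (Set.mem_insert p {r}) : p ∈ Ideal.span {d})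
  obtain ⟨r', hr'⟩ := Ideal.mem_span_singleton'.1
    (hd ▸ Ideal.subset_span (Set.mem_insert_of_mem p rfl) : r ∈ Ideal.span {d})
  haveI : Algebra.IsIntegral R A := Algebra.IsIntegral.of_finite R A
  have hdu : IsUnit d := isUnit_of_map (A := A) (IsUnit.of_mul_eq_one
    (algebraMap R A p' * b 0 + algebraMap R A r' * b 1) (by rw [hone, ← hp', ← hr', map_mul, map_mul]; ring))
  obtain ⟨v, w, hvw⟩ := Ideal.mem_span_pair.1
    ((Ideal.eq_top_iff_one _).1 (hd.trans (Ideal.span_singleton_eq_top.2 hdu)))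
  refine ⟨algebraMap R A v * b 1 - algebraMap R A w * b 0, fun a => ?_, fun s t e => ?_⟩
  · refine ⟨v * b.repr a 0 + w * b.repr a 1, p * b.repr a 1 - r * b.repr a 0, ?_⟩
    have h1 := congrArg (algebraMap R A) hvw
    conv_rhs => rw [hsum a]
    simp only [map_add, map_sub, map_mul, map_one] at h1 ⊢
    linear_combination (algebraMap R A v * algebraMap R A (b.repr a 0) +
      algebraMap R A w * algebraMap R A (b.repr a 1)) * hone +
      (algebraMap R A (b.repr a 0) * b 0 + algebraMap R A (b.repr a 1) * b 1) * h1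
  · have e' : (s * p - t * w) • b 0 + (s * r + t * v) • b 1 = 0 := by
      rw [← e]
      simp only [Algebra.smul_def, map_sub, map_add, map_mul]
      linear_combination -(algebraMap R A s) * hone
    have h0 := Fintype.linearIndependent_iff.1 b.linearIndependent ![s * p - t * w, s * r + t * v]
      (by simpa [Fin.sum_univ_two] using e')
    have e0 : s * p - t * w = 0 := h0 0
    have e1 : s * r + t * v = 0 := h0 1
    exact ⟨by linear_combination v * e0 + w * e1 - s * hvw,
      by linear_combination p * e1 - r * e0 - t * hvw⟩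

variable (k : Type u) [Field k] {C : Scheme.{u}} [C.Over (Spec (CommRingCat.of k))] [IsIntegral C]
  (f : C ⟶ CohB1.ProjSpace 1 k) (hf : f ≫ CohB1.ProjSpace.toSpec 1 k = C ↘ Spec (CommRingCat.of k))
  [IsFinite f] (hη : f (genericPoint C) = genericPoint (CohB1.ProjSpace 1 k))

/-- Rank two over both charts. -/
def RankTwo : Prop :=
  ∀ i : Fin 2, letI := CoverPush.alg f (D k i); Module.finrank Γ(P1 k, D k i) Γ(C, U k f i) = 2

instance isDomain_sections (i : Fin 2) : IsDomain Γ(P1 k, D k i) :=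
  (RingEquiv.ofBijective _ (polyX_bijective k i)).symm.toMulEquiv.isDomain _

theorem isPrincipalIdealRing_sections (i : Fin 2) : IsPrincipalIdealRing Γ(P1 k, D k i) :=
  IsPrincipalIdealRing.of_surjective (polyX k i) (polyX_bijective k i).2

include hη in
theorem finite_free (i : Fin 2) :
    letI := CoverPush.alg f (D k i)
    Module.Finite Γ(P1 k, D k i) Γ(C, U k f i) ∧ Module.Free Γ(P1 k, D k i) Γ(C, U k f i) ∧
      FaithfulSMul Γ(P1 k, D k i) Γ(C, U k f i) := by
  letI := CoverPush.alg f (D k i)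
  haveI := isPrincipalIdealRing_sections k i
  haveI : Module.Finite Γ(P1 k, D k i) Γ(C, U k f i) := IsFinite.finite_app f (D k i) (isAffineOpen_D k i)
  haveI : FaithfulSMul Γ(P1 k, D k i) Γ(C, U k f i) :=
    (faithfulSMul_iff_algebraMap_injective _ _).2 (app_injective k f hη i)
  haveI : Nonempty (U k f i) := ⟨⟨genericPoint C, genericPoint_mem_U k f hη i⟩⟩
  exact ⟨inferInstance, Module.free_of_finite_type_torsion_free', inferInstance⟩

include hf in
theorem exists_gen (h2 : RankTwo k f) (i : Fin 2) :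
    ∃ y : C.functionField, Indep k (par k f hη i) y ∧
      ∀ z : C.functionField, z ∈ span2 k (par k f hη i) y ↔ ∃ a, fn k f hη i a = z := by
  letI := CoverPush.alg f (D k i)
  haveI := isPrincipalIdealRing_sections k i
  obtain ⟨_, _, _⟩ := finite_free k f hη i
  obtain ⟨y, hy1, hy2⟩ := exists_one_generator (h2 i)
  have hmap : ∀ p r : Polynomial k,
      fn k f hη i (algebraMap Γ(P1 k, D k i) Γ(C, U k f i) (polyX k i p) +
        algebraMap Γ(P1 k, D k i) Γ(C, U k f i) (polyX k i r) * y) =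
      Polynomial.aeval (par k f hη i) p + Polynomial.aeval (par k f hη i) r * fn k f hη i y := fun p r => by
    rw [map_add, map_mul]
    exact congrArg₂ (· + ·) (fn_poly k f hf hη i p) (congrArg (· * _) (fn_poly k f hf hη i r))
  refine ⟨fn k f hη i y, fun p r e => ?_, fun z => ?_⟩
  · rw [← hmap, ← map_zero (fn k f hη i)] at e
    obtain ⟨h1, h2⟩ := hy2 _ _ (fn_injective k f hη i e)
    exact ⟨(polyX_bijective k i).1 (h1.trans (map_zero _).symm), (polyX_bijective k i).1 (h2.trans (map_zero _).symm)⟩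
  · rw [mem_span2]
    constructor
    · rintro ⟨p, r, rfl⟩
      exact ⟨_, hmap p r⟩
    · rintro ⟨a, rfl⟩
      obtain ⟨p, r, rfl⟩ := hy1 a
      obtain ⟨p, rfl⟩ := (polyX_bijective k i).2 p
      obtain ⟨r, rfl⟩ := (polyX_bijective k i).2 r
      exact ⟨p, r, (hmap p r).symm⟩

include hη in
theorem genericPoint_mem_inf : genericPoint C ∈ U k f 0 ⊓ U k f 1 :=
  ⟨genericPoint_mem_U k f hη 0, genericPoint_mem_U k f hη 1⟩

/-- Sections over the overlap in the function field. -/
def fnI : Γ(C, U k f 0 ⊓ U k f 1) →+* C.functionField :=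
  (C.presheaf.germ (U k f 0 ⊓ U k f 1) (genericPoint C) (genericPoint_mem_inf k f hη)).hom

include hf hη in
/-- The two charts with their gluing, which computes the genus. -/
theorem exists_pair [Smooth (C ↘ Spec (CommRingCat.of k))] (h2 : RankTwo k f) :
    ∃ (y0 y1 : C.functionField) (c : k) (j n : ℕ) (a : Polynomial k), Pair k (par k f hη 0) y0 y1 ∧
      Normal2 k (par k f hη 0)⁻¹ y1 ∧
      (∀ z, z ∈ span2 k (par k f hη 0) y0 ↔ ∃ a, fn k f hη 0 a = z) ∧
      (∀ z, z ∈ span2 k (par k f hη 0)⁻¹ y1 ↔ ∃ a, fn k f hη 1 a = z) ∧ c ≠ 0 ∧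
      par k f hη 0 ^ n * y1 = Polynomial.aeval (par k f hη 0) a + c • par k f hη 0 ^ j * y0 ∧
      ((n : ℤ) - j - 1).toNat = Curv2.genus k C := by
  obtain ⟨y0, hi0, hr0⟩ := exists_gen k f hf hη h2 0
  obtain ⟨y1, hi1, hr1⟩ := exists_gen k f hf hη h2 1
  rw [par_one] at hi1
  simp only [par_one] at hr1
  set t := par k f hη 0
  have ht : t ≠ 0 := par_ne_zero k f hη 0
  have hgen : ∀ (s y : C.functionField), y ∈ span2 k s y := fun s y => mem_span2.2 ⟨0, 1, by simp⟩
  obtain ⟨a0, ha0⟩ := (hr0 y0).1 (hgen _ _)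
  obtain ⟨a1, ha1⟩ := (hr1 y1).1 (hgen _ _)
  have hres0 : ∀ a, fnI k f hη (C.presheaf.map (homOfLE inf_le_left).op a) = fn k f hη 0 a := fun a =>
    C.presheaf.germ_res_apply _ _ _ a
  have hres1 : ∀ a, fnI k f hη (C.presheaf.map (homOfLE inf_le_right).op a) = fn k f hη 1 a := fun a =>
    C.presheaf.germ_res_apply _ _ _ a
  have hfrac0 : ∀ z : Γ(C, U k f 0 ⊓ U k f 1), ∃ n : ℕ, t ^ n * fnI k f hη z ∈ span2 k t y0 := fun z => by
    obtain ⟨n, a, h⟩ := exists_pow_mul k f hη 0 (U k f 0 ⊓ U k f 1) rfl (genericPoint_mem_inf k f hη) z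
    exact ⟨n, (hr0 _).2 ⟨a, h.symm⟩⟩
  have hfrac1 : ∀ z : Γ(C, U k f 0 ⊓ U k f 1), ∃ n : ℕ, t⁻¹ ^ n * fnI k f hη z ∈ span2 k t⁻¹ y1 := fun z => by
    obtain ⟨n, a, h⟩ := exists_pow_mul k f hη 1 (U k f 0 ⊓ U k f 1) (inf_comm _ _) (genericPoint_mem_inf k f hη) z
    rw [par_one] at h
    exact ⟨n, (hr1 _).2 ⟨a, h.symm⟩⟩
  have hP : Pair k t y0 y1 := by
    refine ⟨ht, hi0, hi1, (hr0 _).2 ⟨a0 ^ 2, by rw [map_pow, ha0]⟩,
      (hr1 _).2 ⟨a1 ^ 2, by rw [map_pow, ha1]⟩, ?_, ?_⟩
    · obtain ⟨n, hn⟩ := hfrac0 (C.presheaf.map (homOfLE inf_le_right).op a1)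
      rw [hres1, ha1] at hn
      exact ⟨n, hn⟩
    · obtain ⟨n, hn⟩ := hfrac1 (C.presheaf.map (homOfLE inf_le_left).op a0)
      rw [hres0, ha0] at hn
      exact ⟨n, hn⟩
  obtain ⟨c, j, n, a, q, hc, he, hqs, hle0, hle1, hqk⟩ := hP.exists_quotient
  have hn1 : Normal2 k t⁻¹ y1 := by
    intro z p r e
    haveI := isIntegrallyClosed_sections k f hη 1
    haveI : Nonempty (U k f 1) := ⟨⟨genericPoint C, genericPoint_mem_U k f hη 1⟩⟩
    haveI := functionField_isFractionRing_of_isAffineOpen C (U k f 1) ((isAffineOpen_D k 1).preimage f)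
    have hint : _root_.IsIntegral Γ(C, U k f 1) z := by
      refine ⟨Polynomial.X ^ 2 + (Polynomial.C (f.app (D k 1) (polyX k 1 p)) * Polynomial.X -
        Polynomial.C (f.app (D k 1) (polyX k 1 r))), Polynomial.monic_X_pow_add ((Polynomial.degree_sub_le _ _).trans_lt
          (max_lt (Polynomial.degree_C_mul_X_le _ |>.trans_lt (by decide))
            (Polynomial.degree_C_le.trans_lt (by decide)))), ?_⟩
      have hp : algebraMap Γ(C, U k f 1) C.functionField (f.app (D k 1) (polyX k 1 p)) = Polynomial.aeval t⁻¹ p := by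
        rw [← par_one k f hη, ← fn_poly k f hf hη]
        rfl
      have hr : algebraMap Γ(C, U k f 1) C.functionField (f.app (D k 1) (polyX k 1 r)) = Polynomial.aeval t⁻¹ r := by
        rw [← par_one k f hη, ← fn_poly k f hf hη]
        rfl
      simp only [Polynomial.eval₂_add, Polynomial.eval₂_sub, Polynomial.eval₂_X_pow, Polynomial.eval₂_mul,
        Polynomial.eval₂_C, Polynomial.eval₂_X, hp, hr]
      linear_combination e
    obtain ⟨w, hw⟩ := IsIntegrallyClosed.isIntegral_iff.1 hint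
    exact (hr1 z).2 ⟨w, hw⟩
  have hmem : ∀ z, fnI k f hη z ∈ LinearMap.range (laur2 k t y1) := fun z => by
    obtain ⟨N, hN⟩ := hfrac0 z
    obtain ⟨⟨α, β⟩, hαβ⟩ := hle0 hN
    obtain ⟨α', hα⟩ := laur_mul_zpow ht α (-(N : ℤ))
    obtain ⟨β', hβ⟩ := laur_mul_zpow ht β (-(N : ℤ))
    refine ⟨(α', β'), ?_⟩
    rw [laur2_apply] at hαβ ⊢
    rw [hα, hβ, mul_right_comm, ← add_mul, hαβ, zpow_neg, zpow_natCast]
    field_simp
  have hconst : ∀ c : k, fnI k f hη (C.presheaf.map (homOfLE le_top).op (Coh.toGlobal (C ↘ Spec (CommRingCat.of k)) c)) =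
      algebraMap k C.functionField c := fun c => C.presheaf.germ_res_apply _ _ _ _
  let S : Submodule k C.functionField :=
    { carrier := Set.range (fnI k f hη)
      add_mem' := by rintro _ _ ⟨x, rfl⟩ ⟨y, rfl⟩; exact ⟨x + y, map_add _ _ _⟩
      zero_mem' := ⟨0, map_zero _⟩
      smul_mem' := by rintro c _ ⟨x, rfl⟩; exact ⟨_ * x, by rw [map_mul, hconst, Algebra.smul_def]⟩ }
  have hS0 : ∀ z, z ∈ span2 k t y0 → z ∈ S := fun z hz => by
    obtain ⟨b, rfl⟩ := (hr0 z).1 hz
    exact ⟨_, hres0 b⟩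
  have hS1 : ∀ z, z ∈ span2 k t⁻¹ y1 → z ∈ S := fun z hz => by
    obtain ⟨b, rfl⟩ := (hr1 z).1 hz
    exact ⟨_, hres1 b⟩
  have hSmul : ∀ x y, x ∈ S → y ∈ S → x * y ∈ S := by
    rintro _ _ ⟨x, rfl⟩ ⟨y, rfl⟩
    exact ⟨x * y, map_mul _ _ _⟩
  have hSz : ∀ i : ℤ, t ^ i ∈ S := fun i => by
    obtain ⟨l, rfl | rfl⟩ := i.eq_nat_or_neg
    · exact hS0 _ (mem_span2.2 ⟨Polynomial.X ^ l, 0, by simp⟩)
    · exact hS1 _ (mem_span2.2 ⟨Polynomial.X ^ l, 0, by simp⟩)
  have hSl : ∀ γ, laur k t γ ∈ S := fun γ => by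
    induction γ using Finsupp.induction_linear with
    | zero => simp
    | add g g' hg hg' => rw [map_add]; exact add_mem hg hg'
    | single i b => rw [laur_single]; exact S.smul_mem _ (hSz i)
  let qq : (Coh.structureModule C).presheaf.obj (op (U k f 0 ⊓ U k f 1)) →+ (Fin ((n : ℤ) - j - 1).toNat → k) :=
    AddMonoidHom.mk' (fun z => q ⟨fnI k f hη z, hmem z⟩) fun x y => by
      rw [← map_add]
      exact congrArg q (Subtype.ext (map_add (fnI k f hη) x y))
  have hgenus : ((n : ℤ) - j - 1).toNat = Curv2.genus k C := by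
    rw [Curv2.genus, finrank_HH_one_two C (U k f 0) (U k f 1) ((isAffineOpen_D k 0).preimage f)
      ((isAffineOpen_D k 1).preimage f) ?_ ?_ _ QCoh.isQCoh_structureModule qq ?_ ?_ ?_, Module.finrank_fin_fun]
    · have h := ((isAffineOpen_D k 0).basicOpen (coordX k 0)).preimage f
      rwa [basicOpen_coordX] at h
    · refine top_le_iff.1 fun x _ => ?_
      rcases TopologicalSpace.Opens.mem_iSup.1 ((AmpleEmbed.iSup_basicOpen_X 1 k).ge (Set.mem_univ (f x))) with ⟨i, hi⟩
      fin_cases i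
      · exact Or.inl hi
      · exact Or.inr hi
    · intro c z
      show q _ = c • q _
      rw [← map_smul]
      refine congrArg q (Subtype.ext ?_)
      show fnI k f hη _ = c • fnI k f hη z
      rw [Algebra.smul_def, ← hconst c]
      exact map_mul (fnI k f hη) _ (show Γ(C, U k f 0 ⊓ U k f 1) from z)
    · intro w
      obtain ⟨⟨z, hz⟩, rfl⟩ := hqs w
      obtain ⟨⟨α, β⟩, rfl⟩ := hz
      obtain ⟨v, hv⟩ : laur2 k t y1 (α, β) ∈ S := by
        rw [laur2_apply]
        exact add_mem (hSl α) (hSmul _ _ (hSl β) (hS1 _ (hgen _ _)))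
      exact ⟨v, congrArg q (Subtype.ext hv)⟩
    · intro z
      show q _ = 0 ↔ _
      rw [hqk]
      show fnI k f hη z ∈ sum2 k t y0 y1 ↔ _
      constructor
      · intro h
        obtain ⟨z0, h0, z1, h1, h01⟩ := Submodule.mem_sup.1 h
        obtain ⟨b0, rfl⟩ := (hr0 z0).1 h0
        obtain ⟨b1, rfl⟩ := (hr1 z1).1 h1
        refine ⟨(-b0 : Γ(C, U k f 0)), b1, germ_injective_of_isIntegral (X := C) (genericPoint C) (genericPoint_mem_inf k f hη) ?_⟩
        show fnI k f hη z = fnI k f hη (C.presheaf.map (homOfLE inf_le_right).op b1 - C.presheaf.map (homOfLE inf_le_left).op (-b0))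
        rw [map_sub (fnI k f hη), hres1, hres0, map_neg, ← h01]
        ring
      · rintro ⟨a, b, rfl⟩
        show fnI k f hη (C.presheaf.map (homOfLE inf_le_right).op (show Γ(C, U k f 1) from b) -
          C.presheaf.map (homOfLE inf_le_left).op (show Γ(C, U k f 0) from a)) ∈ _
        rw [map_sub, hres1, hres0]
        exact sub_mem (Submodule.mem_sup_right ((hr1 _).2 ⟨_, rfl⟩)) (Submodule.mem_sup_left ((hr0 _).2 ⟨_, rfl⟩))
  exact ⟨y0, y1, c, j, n, a, hP, hn1, hr0, hr1, hc, he, hgenus⟩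

include hf hη in
/-- The hyperelliptic equation. -/
theorem exists_equation [Smooth (C ↘ Spec (CommRingCat.of k))] (h2 : RankTwo k f) {g : ℕ} (hg1 : 1 ≤ g)
    (hg : Curv2.genus k C = g) :
    ∃ (y : C.functionField) (P Q : Polynomial k), Indep k (par k f hη 0) y ∧
      (∀ z, z ∈ span2 k (par k f hη 0) y ↔ ∃ a, fn k f hη 0 a = z) ∧
      y ^ 2 + Polynomial.aeval (par k f hη 0) Q * y = Polynomial.aeval (par k f hη 0) P ∧
      2 * g + 1 ≤ max (2 * Q.natDegree) P.natDegree ∧ max (2 * Q.natDegree) P.natDegree ≤ 2 * g + 2 ∧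
      (ringChar k ≠ 2 → ∃ (y' : C.functionField) (P' : Polynomial k),
        span2 k (par k f hη 0) y' = span2 k (par k f hη 0) y ∧
        y' ^ 2 = Polynomial.aeval (par k f hη 0) P' ∧ 2 * g + 1 ≤ P'.natDegree ∧ P'.natDegree ≤ 2 * g + 2) := by
  obtain ⟨y0, y1, c, j, n, a, hP, hn1, hr0, -, hc, he, hgenus⟩ := exists_pair k f hf hη h2
  rw [hg] at hgenus
  obtain ⟨y, P, Q, hs, hi, heq, hlo, hhi, hchar⟩ := hP.normal_form hn1 hc he hg1 hgenus
  refine ⟨y, P, Q, hi, fun z => hs ▸ hr0 z, heq, hlo, hhi, fun h => ?_⟩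
  obtain ⟨y', P', e1, e2, e3, e4⟩ := hchar h
  exact ⟨y', P', e1.trans hs.symm, e2, e3, e4⟩

include hf in
/-- Every function is a quotient of a chart section by a polynomial in the coordinate. -/
theorem exists_frac (z : C.functionField) :
    ∃ (p : Polynomial k) (a : Γ(C, U k f 0)), p ≠ 0 ∧ Polynomial.aeval (par k f hη 0) p * z = fn k f hη 0 a := by
  letI := CoverPush.alg f (D k 0)
  obtain ⟨_, _, _⟩ := finite_free k f hη 0
  haveI : Nonempty (U k f 0) := ⟨⟨genericPoint C, genericPoint_mem_U k f hη 0⟩⟩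
  haveI := functionField_isFractionRing_of_isAffineOpen C (U k f 0) ((isAffineOpen_D k 0).preimage f)
  obtain ⟨a, b, hb, rfl⟩ := IsFractionRing.div_surjective Γ(C, U k f 0) z
  haveI : Algebra.IsIntegral Γ(P1 k, D k 0) Γ(C, U k f 0) := Algebra.IsIntegral.of_finite _ _
  have hb0 : b ≠ 0 := nonZeroDivisors.ne_zero hb
  obtain ⟨e, he0, he⟩ := (Algebra.IsIntegral.isIntegral (R := Γ(P1 k, D k 0)) b).isAlgebraic.exists_nonzero_dvd
    (mem_nonZeroDivisors_of_ne_zero hb0)
  obtain ⟨p, rfl⟩ := (polyX_bijective k 0).2 e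
  obtain ⟨d, hd⟩ := he
  refine ⟨p, d * a, fun e => he0 (by rw [e, map_zero]), ?_⟩
  have h1 : Polynomial.aeval (par k f hη 0) p = fn k f hη 0 b * fn k f hη 0 d := by
    rw [← fn_poly k f hf hη, ← map_mul]
    exact congrArg _ hd
  have h2 : fn k f hη 0 b ≠ 0 := fun e => hb0 (fn_injective k f hη 0 (e.trans (map_zero _).symm))
  rw [h1, map_mul]
  show fn k f hη 0 b * fn k f hη 0 d * (fn k f hη 0 a / fn k f hη 0 b) = fn k f hη 0 d * fn k f hη 0 a
  field_simp

end Groth.Agent.HyperellLib
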