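import Groth.Agent.Lib.P1Bundle
import Groth.Agent.Lib.CurveDualPrep
import Groth.Agent.CurveBC.Etale
import Groth.Agent.CurveBC.Main

/-!
Direct images to the projective line of a double cover.
-/

set_option linter.style.haveILetI false
set_option linter.unusedSectionVars false
set_option backward.isDefEq.respectTransparency false
set_option backward.isDefEq.respectTransparency.types false

universe u

open CategoryTheory CategoryTheory.Limits AlgebraicGeometry TopologicalSpace Opposite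

noncomputable section

namespace Groth.Agent.HyperellLib

open Groth.Agent Groth.Agent.CurveBundle Groth.Agent.CurveSlope Groth.Agent.CurveStable Groth.Agent.CurveDuality
open Groth.Agent.PnCoh.Finite (mapLin)

variable (k : Type u) [Field k]

section General

variable {X : Scheme.{u}} [X.Over (Spec (CommRingCat.of k))]

theorem mapLin_mapLin {A B C : X.Modules} (f : A ⟶ B) (g : B ⟶ C) (n : ℕ) (x : Coh.HH X A n) :
    mapLin k g n (mapLin k f n x) = mapLin k (f ≫ g) n x :=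
  PnCoh.Finite.map_map ((QCoh.toAbFunctor X).map_comp f g).symm n x

/-- Isomorphic modules have the same cohomology. -/
def hhEquiv {A B : X.Modules} (e : A ≅ B) (n : ℕ) : Coh.HH X A n ≃ₗ[k] Coh.HH X B n :=
  LinearEquiv.ofLinear (mapLin k e.hom n) (mapLin k e.inv n)
    (LinearMap.ext fun x => by rw [LinearMap.comp_apply, mapLin_mapLin, e.inv_hom_id, CurveDuality.mapLin_id]; rfl)
    (LinearMap.ext fun x => by rw [LinearMap.comp_apply, mapLin_mapLin, e.hom_inv_id, CurveDuality.mapLin_id]; rfl)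

theorem fst_inl {A B : X.Modules} (n : ℕ) (a : Coh.HH X A n) :
    mapLin k (biprod.fst : A ⊞ B ⟶ A) n (mapLin k biprod.inl n a) = a := by
  rw [mapLin_mapLin, biprod.inl_fst, CurveDuality.mapLin_id]

theorem snd_inl {A B : X.Modules} (n : ℕ) (a : Coh.HH X A n) :
    mapLin k (biprod.snd : A ⊞ B ⟶ B) n (mapLin k biprod.inl n a) = 0 := by
  rw [mapLin_mapLin, biprod.inl_snd, CurveDuality.mapLin_zero]

theorem fst_inr {A B : X.Modules} (n : ℕ) (b : Coh.HH X B n) :
    mapLin k (biprod.fst : A ⊞ B ⟶ A) n (mapLin k biprod.inr n b) = 0 := by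
  rw [mapLin_mapLin, biprod.inr_fst, CurveDuality.mapLin_zero]

theorem snd_inr {A B : X.Modules} (n : ℕ) (b : Coh.HH X B n) :
    mapLin k (biprod.snd : A ⊞ B ⟶ B) n (mapLin k biprod.inr n b) = b := by
  rw [mapLin_mapLin, biprod.inr_snd, CurveDuality.mapLin_id]

theorem total_apply {A B : X.Modules} (n : ℕ) (x : Coh.HH X (A ⊞ B) n) :
    mapLin k biprod.inl n (mapLin k (biprod.fst : A ⊞ B ⟶ A) n x) +
      mapLin k biprod.inr n (mapLin k (biprod.snd : A ⊞ B ⟶ B) n x) = x := by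
  rw [mapLin_mapLin, mapLin_mapLin, ← CurveDuality.mapLin_add, biprod.total, CurveDuality.mapLin_id]

/-- Cohomology of a biproduct. -/
theorem hhBiprod (A B : X.Modules) (n : ℕ) :
    Nonempty (Coh.HH X (A ⊞ B) n ≃ₗ[k] Coh.HH X A n × Coh.HH X B n) := by
  let F := mapLin k (biprod.fst : A ⊞ B ⟶ A) n
  let G := mapLin k (biprod.snd : A ⊞ B ⟶ B) n
  refine ⟨LinearEquiv.ofBijective (F.prod G) ⟨fun x y h => ?_, fun p => ?_⟩⟩
  · have h1 : F x = F y := congrArg Prod.fst h
    have h2 : G x = G y := congrArg Prod.snd h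
    rw [← total_apply k n x, ← total_apply k n y]
    exact congrArg₂ (fun a b => mapLin k biprod.inl n a + mapLin k biprod.inr n b) h1 h2
  · refine ⟨mapLin k biprod.inl n p.1 + mapLin k biprod.inr n p.2, Prod.ext ?_ ?_⟩
    · exact (map_add F _ _).trans ((congrArg₂ (· + ·) (fst_inl k n p.1) (fst_inr k n p.2)).trans (add_zero _))
    · exact (map_add G _ _).trans ((congrArg₂ (· + ·) (snd_inl k n p.1) (snd_inr k n p.2)).trans (zero_add _))

theorem finrank_hh_biprod (A B : X.Modules) (n : ℕ) [Module.Finite k (Coh.HH X A n)]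
    [Module.Finite k (Coh.HH X B n)] :
    Module.finrank k (Coh.HH X (A ⊞ B) n) = Module.finrank k (Coh.HH X A n) + Module.finrank k (Coh.HH X B n) := by
  obtain ⟨e⟩ := hhBiprod k A B n
  rw [e.finrank_eq, Module.finrank_prod]

end General

local notation "tw" => Groth.Agent.P1Bundle.tw

theorem finite_hh_tw (d : ℤ) (n : ℕ) : Module.Finite k (Coh.HH _ (tw k d) n) :=
  CurveCohLib.finite_HH (k := k) (coh_of_free k (P1Bundle.free_tw k d)) n

theorem h_tw_add (a b : ℤ) :
    (Module.finrank k (Coh.HH _ (tw k a ⊞ tw k b) 0) : ℤ) = max 0 (a + 1) + max 0 (b + 1) ∧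
      (Module.finrank k (Coh.HH _ (tw k a ⊞ tw k b) 1) : ℤ) = max 0 (-a - 1) + max 0 (-b - 1) := by
  haveI := fun d n => finite_hh_tw k d n
  rw [finrank_hh_biprod, finrank_hh_biprod]
  push_cast
  rw [P1Bundle.h0_tw, P1Bundle.h0_tw, P1Bundle.h1_tw, P1Bundle.h1_tw]
  exact ⟨rfl, rfl⟩

theorem tw_zero : Nonempty (tw k 0 ≅ Coh.structureModule (CohB1.ProjSpace 1 k)) := by
  have h1 : FlatMod.IsFinLocFreeOfRank 1 (Coh.structureModule (CohB1.ProjSpace 1 k)) :=
    InvEnd.isFinLocFreeOfRank_one CurveDeg.isInvertible_structureModule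
  obtain ⟨e⟩ := P1Bundle.iso_tw k (isFinLocFree_of_rank h1) (rk_eq h1)
  rw [show dg k (Coh.structureModule (CohB1.ProjSpace 1 k)) = 0 by
    unfold dg; rw [rk_eq h1, P1Bundle.euler_O]; omega] at e
  exact ⟨e.symm⟩

theorem tw_tensor (a b : ℤ) : Nonempty ((DCoh.tensorBi.obj (tw k a)).obj (tw k b) ≅ tw k (a + b)) := by
  have hinv : PicF.IsInvertible ((DCoh.tensorBi.obj (tw k a)).obj (tw k b)) :=
    InvX.isInvertible_tensorMod (P1Bundle.inv_tw k a) (P1Bundle.inv_tw k b)
  have h1 := InvEnd.isFinLocFreeOfRank_one hinv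
  obtain ⟨e⟩ := P1Bundle.iso_tw k (isFinLocFree_of_rank h1) (rk_eq h1)
  have hd := CurveRR.deg_tensor k (P1Bundle.hdim k) (P1Bundle.inv_tw k a) (P1Bundle.inv_tw k b)
  rw [deg_eq_dg k h1, deg_eq_dg k (InvEnd.isFinLocFreeOfRank_one (P1Bundle.inv_tw k a)),
    deg_eq_dg k (InvEnd.isFinLocFreeOfRank_one (P1Bundle.inv_tw k b)), P1Bundle.dg_tw, P1Bundle.dg_tw] at hd
  rw [hd] at e
  exact ⟨e⟩

theorem exists_decomp_two {E : (CohB1.ProjSpace 1 k).Modules} (hE : FlatMod.IsFinLocFreeOfRank 2 E) :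
    ∃ a b : ℤ, b ≤ a ∧ Nonempty (E ≅ tw k a ⊞ tw k b) := by
  obtain ⟨d, ⟨e⟩⟩ := P1Bundle.exists_decomp k 2 E (isFinLocFree_of_rank hE) (rk_eq hE)
  have e' : E ≅ tw k (d 0) ⊞ tw k (d 1) := e ≪≫
    { hom := biprod.lift (biproduct.π _ 0) (biproduct.π _ 1)
      inv := biprod.desc (biproduct.ι (fun i => tw k (d i)) 0) (biproduct.ι (fun i => tw k (d i)) 1)
      hom_inv_id := by
        rw [biprod.lift_desc, ← biproduct.total, Fin.sum_univ_two]
      inv_hom_id := by
        apply biprod.hom_ext <;> apply biprod.hom_ext' <;> simp [biproduct.ι_π] }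
  rcases le_total (d 1) (d 0) with h | h
  · exact ⟨_, _, h, ⟨e'⟩⟩
  · exact ⟨_, _, h, ⟨e' ≪≫ biprod.braiding _ _⟩⟩

variable {C : Scheme.{u}} [C.Over (Spec (CommRingCat.of k))]
  (f : C ⟶ CohB1.ProjSpace 1 k) (hf : f ≫ CohB1.ProjSpace.toSpec 1 k = C ↘ Spec (CommRingCat.of k))
  [IsFinite f] [Flat f] (hrk : ∀ y : ↥(CohB1.ProjSpace 1 k), Scheme.Hom.finrank f y = 2)

include hrk in
theorem isFinLocFreeOfRank_two :
    FlatMod.IsFinLocFreeOfRank 2 ((Scheme.Modules.pushforward f).obj (Coh.structureModule C)) :=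
  H23.CoverPush.isFinLocFreeOfRank_push_of_isCover f ⟨⟨inferInstance, inferInstance, inferInstance⟩, hrk⟩

include hf in
theorem finrank_hh_push {M : C.Modules} (hM : Coh.IsQCoh M) (i : ℕ) :
    Module.finrank k (Coh.HH _ ((Scheme.Modules.pushforward f).obj M) i) = Module.finrank k (Coh.HH C M i) := by

  obtain ⟨e⟩ := PnCoh.exists_linearEquiv_push k f hf hM i
  exact e.finrank_eq.symm

variable [IsIntegral C] [IsProper (C ↘ Spec (CommRingCat.of k))] (hdim : topologicalKrullDim C = 1)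
  (h0 : Module.finrank k (Coh.HH C (Coh.structureModule C) 0) = 1)

include hf hrk h0 in
/-- The direct image of the structure sheaf. -/
theorem push_decomp {g : ℕ} (hg : Curv2.genus k C = g) :
    Nonempty ((Scheme.Modules.pushforward f).obj (Coh.structureModule C) ≅ tw k 0 ⊞ tw k (-(g : ℤ) - 1)) := by
  obtain ⟨a, b, hab, ⟨e⟩⟩ := exists_decomp_two k (isFinLocFreeOfRank_two k f hrk)
  obtain ⟨e0, e1⟩ := h_tw_add k a b
  rw [← (hhEquiv k e 0).finrank_eq, finrank_hh_push k f hf QCoh.isQCoh_structureModule, h0] at e0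
  rw [← (hhEquiv k e 1).finrank_eq, finrank_hh_push k f hf QCoh.isQCoh_structureModule] at e1
  rw [Curv2.genus] at hg
  rw [hg] at e1
  have ha : a = 0 := by push_cast at e0; omega
  have hb : b = -(g : ℤ) - 1 := by push_cast at e0; omega
  subst ha hb
  exact ⟨e⟩

include hf in
/-- The projection formula for a twist. -/
theorem push_pullback_tw (n : ℤ) {M : C.Modules} :
    Nonempty ((DCoh.tensorBi.obj (tw k n)).obj ((Scheme.Modules.pushforward f).obj M) ≅
      (Scheme.Modules.pushforward f).obj ((DCoh.tensorBi.obj ((Scheme.Modules.pullback f).obj (tw k n))).obj M)) := by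
  haveI : EnoughInjectives C.Modules := inferInstance
  obtain ⟨φ⟩ := S0927.result f M (tw k n) (P1Bundle.free_tw k n) 0
  let ψ := (Scheme.Modules.pushforward f).rightDerivedZeroIsoSelf
  exact ⟨(DCoh.tensorBi.obj (tw k n)).mapIso (ψ.app M).symm ≪≫ φ ≪≫ ψ.app _⟩

include hf hrk h0 in
theorem push_pullback_tw_decomp {g : ℕ} (hg : Curv2.genus k C = g) (n : ℤ) :
    Nonempty ((Scheme.Modules.pushforward f).obj ((Scheme.Modules.pullback f).obj (tw k n)) ≅
      tw k n ⊞ tw k (n - g - 1)) := by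
  obtain ⟨e⟩ := push_decomp k f hf hrk h0 hg
  obtain ⟨p⟩ := push_pullback_tw k f hf n (M := Coh.structureModule C)
  let T := DCoh.tensorBi.obj (tw k n)
  haveI := DCoh.additive_tensorBi_obj (tw k n)
  haveI := preservesBinaryBiproduct_of_preservesBinaryProduct (F := T) (X := tw k 0) (Y := tw k (-(g : ℤ) - 1))
  obtain ⟨t0⟩ := tw_tensor k n 0
  obtain ⟨t1⟩ := tw_tensor k n (-(g : ℤ) - 1)
  exact ⟨(Scheme.Modules.pushforward f).mapIso (KFlatLib.tensorUnitIso _).symm ≪≫ p.symm ≪≫ T.mapIso e ≪≫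
    T.mapBiprod (tw k 0) (tw k (-(g : ℤ) - 1)) ≪≫ biprod.mapIso (t0 ≪≫ eqToIso (by rw [add_zero]))
      (t1 ≪≫ eqToIso (by congr 1; ring))⟩

include hf hrk h0 in
theorem h0_pullback_tw {g : ℕ} (hg : Curv2.genus k C = g) (n : ℤ) :
    (Module.finrank k (Coh.HH C ((Scheme.Modules.pullback f).obj (tw k n)) 0) : ℤ) =
      max 0 (n + 1) + max 0 (n - g) := by
  obtain ⟨e⟩ := push_pullback_tw_decomp k f hf hrk h0 hg n
  rw [← finrank_hh_push k f hf (ProjUPX.isQCoh_of_isInvertible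
    (PicClLib.isInvertible_pullback f (P1Bundle.inv_tw k n))), (hhEquiv k e 0).finrank_eq, (h_tw_add k _ _).1]
  omega

include hf hrk in
theorem deg_pullback_tw (n : ℤ) :
    Curv2.deg k C ((Scheme.Modules.pullback f).obj (tw k n)) 1 = 2 * n := by
  have h := CurveBC.deg_pullback k f (P1Bundle.hdim k) hf (P1Bundle.inv_tw k n)
  rw [deg_eq_dg k (InvEnd.isFinLocFreeOfRank_one (P1Bundle.inv_tw k n)), P1Bundle.dg_tw] at h
  rw [h]
  unfold CurveBC.coverDeg
  rw [rk_eq (isFinLocFreeOfRank_two k f hrk)]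
  rfl

/-- Powers of a pulled back twist. -/
theorem tensorPow_pullback_tw : ∀ r : ℕ, Nonempty (CohB1.tensorPow ((Scheme.Modules.pullback f).obj (tw k 1)) r ≅
    (Scheme.Modules.pullback f).obj (tw k r))
  | 0 => by
    obtain ⟨e⟩ := tw_zero k
    exact ⟨(CurveBC.unitIso f).symm ≪≫ (Scheme.Modules.pullback f).mapIso e.symm⟩
  | r + 1 => by
    obtain ⟨e⟩ := tensorPow_pullback_tw r
    obtain ⟨t⟩ := tw_tensor k r 1
    exact ⟨(DCoh.tensorBi.mapIso e).app _ ≪≫
      (((KFlatLib.pullTensorBiIso f).app (tw k r)).app (tw k 1)).symm ≪≫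
      (Scheme.Modules.pullback f).mapIso (t ≪≫ eqToIso (by push_cast; rfl))⟩

end Groth.Agent.HyperellLib
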