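import Mathlib.RingTheory.Smooth.Basic
import Mathlib.RingTheory.AdjoinRoot
import Mathlib.FieldTheory.IsAlgClosed.AlgebraicClosure

/-! A smoothness obstruction for inseparable double covers. -/

set_option autoImplicit false
universe u
open Polynomial

namespace Groth.Agent.HyperellLib

/-- In a formally smooth algebra `k[t, y]/(y² - P(t))` in characteristic two, `P'` is a unit. -/
theorem isUnit_derivative_of_formallySmooth {k A : Type u} [Field k] [CommRing A] [Algebra k A]
    [Algebra.FormallySmooth k A] (h2 : (2 : k) = 0) {T Y : A} {P : k[X]} (he : Y ^ 2 = aeval T P)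
    (hspan : ∀ a : A, ∃ p r : k[X], aeval T p + aeval T r * Y = a)
    (hindep : ∀ p r : k[X], aeval T p + aeval T r * Y = 0 → p = 0 ∧ r = 0) : IsUnit P.derivative := by
  by_contra hu
  let K := AlgebraicClosure k
  let F : k[X][X] := X ^ 2 - C P
  have hF : F.Monic := monic_X_pow_sub_C P two_ne_zero
  have hFd : F.natDegree = 2 := natDegree_X_pow_sub_C
  let e : AdjoinRoot F →+* A := AdjoinRoot.lift (aeval T).toRingHom Y (by simp [F, he])
  have hmk : ∀ p r : k[X], e (AdjoinRoot.mk F (C p + C r * X)) = aeval T p + aeval T r * Y := fun p r => by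
    simp [e]
  have hes : Function.Surjective e := fun a => by
    obtain ⟨p, r, h⟩ := hspan a
    exact ⟨_, (hmk p r).trans h⟩
  have hei : Function.Injective e := by
    rw [injective_iff_map_eq_zero]
    intro z hz
    obtain ⟨q, rfl⟩ := AdjoinRoot.mk_surjective z
    have hq : AdjoinRoot.mk F q = AdjoinRoot.mk F (q %ₘ F) :=
      AdjoinRoot.mk_eq_mk.2 ⟨q /ₘ F, by rw [sub_eq_iff_eq_add', modByMonic_add_div]⟩
    have hdeg : (q %ₘ F).natDegree ≤ 1 := by
      have := natDegree_modByMonic_lt q hF (fun h => by rw [h, natDegree_one] at hFd; omega)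
      omega
    rw [hq, eq_X_add_C_of_natDegree_le_one hdeg, add_comm, hmk] at hz
    obtain ⟨h0, h1⟩ := hindep _ _ hz
    rw [hq, eq_X_add_C_of_natDegree_le_one hdeg, h0, h1]
    simp
  let e' : AdjoinRoot F ≃ₐ[k] A := AlgEquiv.ofRingEquiv (f := RingEquiv.ofBijective e ⟨hei, hes⟩) fun c => by
    show e (algebraMap k (AdjoinRoot F) c) = _
    rw [IsScalarTower.algebraMap_apply k k[X] (AdjoinRoot F), AdjoinRoot.algebraMap_eq]
    simp [e]
  obtain ⟨a, ha⟩ : ∃ a : K, aeval a P.derivative = 0 := by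
    rcases eq_or_ne P.derivative 0 with h0 | h0
    · exact ⟨0, by rw [h0, map_zero]⟩
    · exact IsAlgClosed.exists_aeval_eq_zero K _ fun hd => hu (isUnit_iff_degree_eq_zero.2 hd)
  obtain ⟨b, hb⟩ := IsAlgClosed.exists_pow_nat_eq (aeval a P) two_pos
  let B := AdjoinRoot (X ^ 3 : K[X])
  let ε : B := AdjoinRoot.root _
  let I : Ideal B := Ideal.span {ε ^ 2}
  have hε : ε ^ 3 = 0 := (map_pow (AdjoinRoot.mk (X ^ 3 : K[X])) X 3).symm.trans AdjoinRoot.mk_self
  have hI : IsNilpotent I := ⟨2, by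
    rw [Ideal.span_singleton_pow, Ideal.zero_eq_bot, Ideal.span_singleton_eq_bot, ← pow_mul,
      pow_succ, hε, zero_mul]⟩
  have h2B : (2 : B) = 0 := by rw [← map_ofNat (algebraMap k B), h2, map_zero]
  have hab : ∀ p : k[X], aeval (algebraMap K B a) p = algebraMap K B (aeval a p) := fun p =>
    aeval_algebraMap_apply B a p
  let ψ0 : AdjoinRoot F →ₐ[k] B ⧸ I := AdjoinRoot.liftAlgHom F (aeval (Ideal.Quotient.mk I (algebraMap K B a)))
    (Ideal.Quotient.mk I (algebraMap K B b + ε)) (by
      simp only [F, eval₂_sub, eval₂_X_pow, eval₂_C, ← map_pow]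
      have h1 : aeval (Ideal.Quotient.mk I (algebraMap K B a)) P =
          Ideal.Quotient.mk I (algebraMap K B (b ^ 2)) := by
        rw [hb, ← hab]
        exact aeval_algHom_apply (Ideal.Quotient.mkₐ k I) _ P
      refine (congrArg (_ - ·) h1).trans ?_
      rw [sub_eq_zero, Ideal.Quotient.eq, map_pow]
      refine Ideal.mem_span_singleton'.2 ⟨1, ?_⟩
      linear_combination -(algebraMap K B b * ε) * h2B)
  let ψ : A →ₐ[k] B ⧸ I := ψ0.comp e'.symm.toAlgHom
  let g : A →ₐ[k] B := Algebra.FormallySmooth.lift I hI ψ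
  have hgm : ∀ x, Ideal.Quotient.mk I (g x) = ψ x := fun x => Algebra.FormallySmooth.mk_lift I hI ψ x
  have eT : e'.symm T = AdjoinRoot.of F X := by
    apply e'.injective
    rw [e'.apply_symm_apply]
    exact (by simp [e] : T = e (AdjoinRoot.of F X))
  have eY : e'.symm Y = AdjoinRoot.root F := by
    apply e'.injective
    rw [e'.apply_symm_apply]
    exact (by simp [e] : Y = e (AdjoinRoot.root F))
  have hT : g T - algebraMap K B a ∈ I := Ideal.Quotient.eq.1 <| by
    rw [hgm]
    show ψ0 (e'.symm T) = _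
    rw [eT]
    simp [ψ0]
  have hY : g Y - (algebraMap K B b + ε) ∈ I := Ideal.Quotient.eq.1 <| by
    rw [hgm]
    show ψ0 (e'.symm Y) = _
    rw [eY]
    simp [ψ0]
  obtain ⟨v, hv⟩ := Ideal.mem_span_singleton'.1 hT
  obtain ⟨w, hw⟩ := Ideal.mem_span_singleton'.1 hY
  have h4 : ε ^ 4 = 0 := by rw [pow_succ, hε, zero_mul]
  have key := congrArg g he
  rw [map_pow, ← aeval_algHom_apply, show g T = algebraMap K B a + v * ε ^ 2 by linear_combination -hv,
    show g Y = algebraMap K B b + ε + w * ε ^ 2 by linear_combination -hw] at key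
  rw [aeval_add_of_sq_eq_zero _ _ _ (by linear_combination v ^ 2 * h4), hab, hab, ha, map_zero, zero_mul,
    add_zero, ← hb, map_pow] at key
  have hε2 : ε ^ 2 = 0 := by
    linear_combination key - (algebraMap K B b * ε + algebraMap K B b * w * ε ^ 2 + w * ε ^ 3) * h2B - w ^ 2 * h4
  rw [show ε ^ 2 = AdjoinRoot.mk (X ^ 3 : K[X]) (X ^ 2) by simp [ε], AdjoinRoot.mk_eq_zero,
    X_pow_dvd_iff] at hε2
  have := hε2 2 (by norm_num)
  simp at this

end Groth.Agent.HyperellLib
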