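import Groth.Agent.HyperellLib.Double
import Groth.Agent.HyperellLib.UnitDeriv
import Groth.Agent.SmoothReg.Scheme
import Mathlib.FieldTheory.SeparableClosure

/-!
A double cover of the projective line by a smooth curve of positive genus is separable.
-/

set_option linter.style.haveILetI false
set_option linter.unusedSectionVars false
set_option backward.isDefEq.respectTransparency false
set_option backward.isDefEq.respectTransparency.types false

universe u

open CategoryTheory CategoryTheory.Limits AlgebraicGeometry TopologicalSpace Opposite Polynomial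
attribute [local instance] Curv2.stalkAlgebra

noncomputable section

namespace Groth.Agent.HyperellLib

open Groth.Agent Groth.Agent.H23

section Algebra

variable {k : Type*} [Field k] {K : Type*} [Field K] [Algebra k K]

theorem natCast_eq_zero_of_even (h2 : (2 : k) = 0) {m : ℕ} (hm : Even m) : (m : k) = 0 := by
  obtain ⟨l, rfl⟩ := hm
  push_cast
  rw [← two_mul, h2, zero_mul]

theorem derivative_reflect (h2 : (2 : k) = 0) {N : ℕ} (hN : Even N) {P : k[X]} (hP : P.natDegree ≤ N) (h1 : 2 ≤ N)
    {c : k} (hc : P.derivative = C c) : derivative (reflect N P) = C c * X ^ (N - 2) := by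
  have h0 : derivative (reflect N (P - C c * X)) = 0 := by
    ext i
    rw [coeff_derivative, coeff_zero, coeff_reflect]
    rcases Nat.even_or_odd (i + 1) with h | h
    · rw [← Nat.cast_succ, natCast_eq_zero_of_even h2 h, mul_zero]
    · by_cases hi : i + 1 ≤ N
      · have hm : ∃ m, revAt N (i + 1) = m + 1 ∧ Even m := by
          obtain ⟨p, hp⟩ := hN
          obtain ⟨q, hq⟩ := h
          refine ⟨N - (i + 1) - 1, ?_, p - q - 1, ?_⟩
          · rw [revAt_le hi]; omega
          · omega
        obtain ⟨m, hm, hme⟩ := hm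
        rw [hm]
        have hd : derivative (P - C c * X) = 0 := by simp [hc]
        have := congrArg (fun p => p.coeff m) hd
        simp only [coeff_derivative, coeff_zero, natCast_eq_zero_of_even h2 hme, zero_add, mul_one] at this
        rw [this, zero_mul]
      · rw [revAt_eq_self_of_lt (by omega)]
        rw [coeff_eq_zero_of_natDegree_lt, zero_mul]
        refine (natDegree_sub_le _ _).trans_lt (max_lt (by omega) ((natDegree_C_mul_le _ _ |>.trans natDegree_X_le).trans_lt (by omega)))
  have h3 : reflect N P = reflect N (P - C c * X) + reflect N (C c * X ^ 1) := by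
    rw [pow_one, ← reflect_add, sub_add_cancel]
  rw [h3, derivative_add, h0, zero_add, reflect_C_mul_X_pow, revAt_le (by omega), derivative_C_mul_X_pow]
  have h4 : ((N - 1 : ℕ) : k) = 1 := by
    rw [Nat.cast_sub (by omega), natCast_eq_zero_of_even h2 hN, Nat.cast_one, zero_sub]
    linear_combination -h2
  rw [h4, mul_one, show N - 1 - 1 = N - 2 by omega]

variable {t y0 y1 : K}

/-- Inseparable equations on both charts force genus zero. -/
theorem Pair.insep (h : Pair k t y0 y1) (h2 : (2 : k) = 0) {c : k} {j n : ℕ} {a : k[X]} (hc : c ≠ 0)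
    (he : t ^ n * y1 = aeval t a + c • t ^ j * y0) {P0 P1 R1 : k[X]} (e0 : y0 ^ 2 = aeval t P0)
    (e1 : y1 ^ 2 = aeval t⁻¹ P1 + aeval t⁻¹ R1 * y1) :
    R1 = 0 ∧ (IsUnit P0.derivative → IsUnit P1.derivative → n = j + 1) := by
  have ht := h.ne_zero
  have h2K : (2 : K) = 0 := by rw [← map_ofNat (algebraMap k K), h2, map_zero]
  let W : k[X] := a ^ 2 + C (c ^ 2) * X ^ (2 * j) * P0
  let M := 2 * (W.natDegree + P1.natDegree + 1)
  have hW : t ^ (2 * n) * y1 ^ 2 = aeval t W := by
    have := congrArg (· ^ 2) he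
    simp only [mul_pow, ← pow_mul, Algebra.smul_def] at this
    rw [mul_comm n 2] at this
    simp only [W, map_add, map_mul, map_pow, aeval_C, aeval_X]
    rw [this]
    linear_combination (aeval t a * (algebraMap k K c * t ^ j * y0)) * h2K +
      (algebraMap k K c) ^ 2 * t ^ (2 * j) * e0
  have hR := aeval_reflect t⁻¹ (inv_ne_zero ht) (show W.natDegree ≤ M by omega)
  rw [inv_inv] at hR
  have key : X ^ M * P1 - X ^ (2 * n) * reflect M W = 0 ∧ X ^ M * R1 = 0 := by
    refine h.indep1 _ _ ?_
    simp only [map_sub, map_mul, map_pow, aeval_X, hR, ← hW, e1]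
    have : (t⁻¹) ^ (2 * n) * t ^ (2 * n) = 1 := by rw [← mul_pow, inv_mul_cancel₀ ht, one_pow]
    linear_combination -(t⁻¹ ^ M * (aeval t⁻¹ P1 + aeval t⁻¹ R1 * y1)) * this
  obtain ⟨k1, k2⟩ := key
  refine ⟨(mul_eq_zero.1 k2).resolve_left (pow_ne_zero _ X_ne_zero), fun u0 u1 => ?_⟩
  obtain ⟨c0, hc0, hd0⟩ := Polynomial.isUnit_iff.1 u0
  obtain ⟨c1, hc1, hd1⟩ := Polynomial.isUnit_iff.1 u1
  have hd : derivative W = C (c ^ 2 * c0) * X ^ (2 * j) := by
    simp only [W, derivative_add, derivative_sq, derivative_mul, derivative_C, derivative_X_pow, ← hd0,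
      natCast_eq_zero_of_even h2 (even_two_mul j), h2, map_zero, zero_mul, mul_zero, zero_add, map_mul]
    ring
  have hdM : derivative (X ^ M * P1) = C c1 * X ^ M := by
    rw [derivative_mul, derivative_X_pow, natCast_eq_zero_of_even h2 (even_two_mul _), map_zero, zero_mul,
      zero_mul, zero_add, ← hd1, mul_comm]
  -- coefficient of the derivative of the reflected polynomial
  have hW' : ∀ m, W.coeff (m + 1) * ((m : k) + 1) = if m = 2 * j then c ^ 2 * c0 else 0 := fun m => by
    rw [← coeff_derivative, hd, coeff_C_mul_X_pow]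
  have hjW : 2 * j + 1 ≤ W.natDegree := by
    refine le_natDegree_of_ne_zero fun h0 => ?_
    have := hW' (2 * j)
    rw [h0, zero_mul, if_pos rfl] at this
    exact mul_ne_zero (pow_ne_zero 2 hc) hc0.ne_zero this.symm
  have hdR : derivative (reflect M W) = C (c ^ 2 * c0) * X ^ (M - 2 * j - 2) := by
    ext i
    rw [coeff_derivative, coeff_reflect, coeff_C_mul_X_pow]
    rcases Nat.even_or_odd (i + 1) with h' | h'
    · rw [← Nat.cast_succ, natCast_eq_zero_of_even h2 h', mul_zero, if_neg]
      rintro rfl
      obtain ⟨l, hl⟩ := h'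
      omega
    · obtain ⟨l, hl⟩ := h'
      have hi1 : ((i : k) + 1) = 1 := by
        rw [natCast_eq_zero_of_even h2 (m := i) ⟨l, by omega⟩, zero_add]
      rw [hi1, mul_one]
      by_cases hi : i + 1 ≤ M
      · have hm : revAt M (i + 1) = (M - i - 2) + 1 := by rw [revAt_le hi]; omega
        have := hW' (M - i - 2)
        rw [natCast_eq_zero_of_even h2 (m := M - i - 2) ⟨W.natDegree + P1.natDegree - l, by omega⟩,
          zero_add, mul_one] at this
        rw [hm, this]
        split_ifs <;> first | rfl | omega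
      · rw [revAt_eq_self_of_lt (by omega), coeff_eq_zero_of_natDegree_lt (by omega), if_neg (by omega)]
  have k3 := congrArg derivative (sub_eq_zero.1 k1)
  rw [hdM, derivative_mul, derivative_X_pow, natCast_eq_zero_of_even h2 (even_two_mul _), map_zero, zero_mul,
    zero_mul, zero_add, hdR, mul_left_comm, ← pow_add] at k3
  have k4 := congrArg natDegree k3
  rw [natDegree_C_mul_X_pow _ _ hc1.ne_zero,
    natDegree_C_mul_X_pow _ _ (mul_ne_zero (pow_ne_zero 2 hc) hc0.ne_zero)] at k4
  omega

end Algebra

variable (k : Type u) [Field k] {C : Scheme.{u}} [C.Over (Spec (CommRingCat.of k))] [IsIntegral C]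
  (f : C ⟶ CohB1.ProjSpace 1 k) (hf : f ≫ CohB1.ProjSpace.toSpec 1 k = C ↘ Spec (CommRingCat.of k))
  [IsFinite f] (hη : f (genericPoint C) = genericPoint (CohB1.ProjSpace 1 k))
  [Smooth (C ↘ Spec (CommRingCat.of k))]

include hf in
/-- The chart equation `y² = P` of a smooth curve in characteristic two. -/
theorem isUnit_derivative_chart (h2 : (2 : k) = 0) (i : Fin 2) {y : C.functionField} {P : k[X]}
    (hi : Indep k (par k f hη i) y) (hr : ∀ z, z ∈ span2 k (par k f hη i) y ↔ ∃ a, fn k f hη i a = z)
    (e : y ^ 2 = aeval (par k f hη i) P) : IsUnit P.derivative := by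
  let s := C ↘ Spec (CommRingCat.of k)
  let U := U k f i
  letI : Algebra k Γ(C, U) := (SmoothReg.affMap s U).toAlgebra
  letI := (s.appLE ⊤ U (by simp)).hom.toAlgebra
  letI : Algebra k Γ(Spec (CommRingCat.of k), ⊤) :=
    (Scheme.ΓSpecIso (CommRingCat.of k)).inv.hom.toAlgebra
  haveI : IsScalarTower k Γ(Spec (CommRingCat.of k), ⊤) Γ(C, U) := .of_algebraMap_eq' rfl
  haveI : Algebra.FormallyEtale k Γ(Spec (CommRingCat.of k), ⊤) :=
    Algebra.FormallyEtale.of_equiv (AlgEquiv.ofBijective (Algebra.ofId k _)
      (ConcreteCategory.bijective_of_isIso (Scheme.ΓSpecIso (CommRingCat.of k)).inv))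
  haveI : Algebra.Smooth Γ(Spec (CommRingCat.of k), ⊤) Γ(C, U) :=
    s.smooth_appLE (isAffineOpen_top _) ((isAffineOpen_D k i).preimage f) (by simp)
  haveI : Algebra.FormallySmooth k Γ(C, U) :=
    Algebra.FormallySmooth.comp k Γ(Spec (CommRingCat.of k), ⊤) Γ(C, U)
  let φ : Γ(C, U) →ₐ[k] C.functionField :=
    { fn k f hη i with commutes' := fun c => C.presheaf.germ_res_apply _ _ _ _ }
  obtain ⟨a, ha⟩ := (hr y).1 (mem_span2.2 ⟨0, 1, by simp⟩)
  have hmap : ∀ p r : k[X], φ (aeval (f.app (D k i) (coordX k i)) p + aeval (f.app (D k i) (coordX k i)) r * a) =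
      aeval (par k f hη i) p + aeval (par k f hη i) r * y := fun p r => by
    rw [map_add, map_mul, ← aeval_algHom_apply, ← aeval_algHom_apply]
    exact congrArg (_ + _ * ·) ha
  have hinj : Function.Injective φ := fn_injective k f hη i
  refine isUnit_derivative_of_formallySmooth h2 (A := Γ(C, U)) (T := f.app (D k i) (coordX k i)) (Y := a)
    (hinj ?_) (fun b => ?_) (fun p r h => hi p r ?_)
  · rw [map_pow, ← aeval_algHom_apply]
    exact (congrArg (· ^ 2) ha).trans e
  · obtain ⟨p, r, h⟩ := mem_span2.1 ((hr (φ b)).2 ⟨b, rfl⟩)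
    exact ⟨p, r, hinj ((hmap p r).trans h)⟩
  · rw [← hmap, h, map_zero]

include hf hη in
/-- The function field extension of a double cover of positive genus is separable. -/
theorem isSeparable_stalk (hrk : RankTwo k f) (hg : 1 ≤ Curv2.genus k C) :
    letI := (f.stalkMap (genericPoint C)).hom.toAlgebra
    Algebra.IsSeparable ((P1 k).presheaf.stalk (f (genericPoint C))) (C.presheaf.stalk (genericPoint C)) := by
  letI := (f.stalkMap (genericPoint C)).hom.toAlgebra
  let K0 := (P1 k).presheaf.stalk (f (genericPoint C))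
  letI : Field K0 := (show IsField K0 by
    show IsField ((P1 k).presheaf.stalk (f (genericPoint C)))
    rw [hη]; exact Field.toIsField (P1 k).functionField).toField
  letI : Algebra K0 C.functionField := (f.stalkMap (genericPoint C)).hom.toAlgebra
  obtain ⟨y0, y1, c, j, n, a, hP, -, hr0, hr1, hc, he, hgen⟩ := exists_pair k f hf hη hrk
  obtain ⟨P0, R0, hy0⟩ := mem_span2.1 hP.sq0
  set t := par k f hη 0 with htdef
  have hpoly : ∀ p : k[X], ∃ z : K0, algebraMap K0 C.functionField z = aeval t p := fun p =>
    ⟨_, (fn_app_germ k f hη 0 (polyX k 0 p)).symm.trans (fn_poly k f hf hη 0 p)⟩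
  by_cases hsep : 2 * y0 - aeval t R0 = 0
  · exfalso
    obtain ⟨hR0, h2'⟩ := hP.indep0 (-R0) (Polynomial.C 2) (by rw [map_neg, aeval_C, map_ofNat]; linear_combination hsep)
    have h2 : (2 : k) = 0 := C_eq_zero.1 h2'
    obtain ⟨P1, R1, hy1⟩ := mem_span2.1 hP.sq1
    rw [neg_eq_zero] at hR0
    rw [hR0, map_zero, zero_mul, add_zero] at hy0
    obtain ⟨hR1, hn⟩ := hP.insep h2 hc he hy0.symm hy1.symm
    rw [hR1, map_zero, zero_mul, add_zero] at hy1
    have hu1 : IsUnit P1.derivative := by
      refine isUnit_derivative_chart k f hf hη h2 1 ?_ ?_ ?_ (y := y1)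
      · rw [par_one]; exact hP.indep1
      · rw [par_one]; exact hr1
      · rw [par_one]; exact hy1.symm
    have := hn (isUnit_derivative_chart k f hf hη h2 0 hP.indep0 hr0 hy0.symm) hu1
    omega
  · obtain ⟨p0, hp0⟩ := hpoly P0
    obtain ⟨q0, hq0⟩ := hpoly R0
    have hy : y0 ∈ separableClosure K0 C.functionField := by
      rw [mem_separableClosure_iff]
      let F : K0[X] := X ^ 2 - Polynomial.C q0 * X - Polynomial.C p0
      have hF : F.Monic := by
        unfold F
        monicity!
      have hF0 : aeval y0 F = 0 := by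
        simp only [F, map_sub, map_mul, map_pow, aeval_X, aeval_C, hp0, hq0]
        linear_combination -hy0
      have hint : _root_.IsIntegral K0 y0 := ⟨F, hF, hF0⟩
      obtain ⟨r, hr⟩ := minpoly.dvd K0 y0 hF0
      refine (separable_iff_derivative_ne_zero (minpoly.irreducible hint)).2 fun h0 => hsep ?_
      have : aeval y0 (derivative F) = 0 := by
        rw [hr, derivative_mul, h0, zero_mul, zero_add, map_mul, minpoly.aeval, zero_mul]
      simpa [F, derivative_X_sq, hq0, sub_eq_zero, one_add_one_eq_two, map_ofNat (algebraMap K0 C.functionField)] using this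
    refine ⟨fun z => ?_⟩
    show IsSeparable K0 (show C.functionField from z)
    rw [← mem_separableClosure_iff]
    obtain ⟨p, b, hp, hz⟩ := exists_frac k f hf hη (show C.functionField from z)
    obtain ⟨q, r, hqr⟩ := mem_span2.1 ((hr0 _).2 ⟨b, rfl⟩)
    have hne := hP.indep0.aeval_ne_zero hp
    have hm : ∀ p : k[X], aeval t p ∈ separableClosure K0 C.functionField := fun p => by
      obtain ⟨w, hw⟩ := hpoly p
      rw [← hw]
      exact IntermediateField.algebraMap_mem _ w
    have hz' : (show C.functionField from z) = (aeval t q + aeval t r * y0) / aeval t p := by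
      rw [hqr, ← hz, mul_div_cancel_left₀ _ hne]
    rw [hz']
    exact div_mem (add_mem (hm q) (mul_mem (hm r) hy)) (hm p)

end Groth.Agent.HyperellLib
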