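import Groth.Agent.S11584
import Groth.Agent.HyperellLib.Sep
import Groth.Agent.HyperellLib.Push
import Groth.Agent.CurveEmbed.Main
import Groth.Agent.AmpleX.SemiAmple

/-!
A base point free pencil of degree two on a curve of positive genus is a separable double cover of the line.
-/

set_option linter.style.haveILetI false
set_option linter.unusedSectionVars false
set_option backward.isDefEq.respectTransparency false
set_option backward.isDefEq.respectTransparency.types false

universe u

open CategoryTheory CategoryTheory.Limits AlgebraicGeometry TopologicalSpace Opposite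
attribute [local instance] Curv2.stalkAlgebra Groth.Agent.CurveBC.overBar

noncomputable section

namespace Groth.Agent.HyperellLib

open Groth.Agent Groth.Agent.H23 Groth.Agent.InvX
open Groth.Agent.PnCoh.Finite (mapLin)

variable (k : Type u) [Field k]

section Gen

variable {X : Scheme.{u}} [X.Over (Spec (CommRingCat.of k))]

omit [X.Over (Spec (CommRingCat.of k))] in
/-- The loci of the sections of a globally generated invertible module cover. -/
theorem exists_locus_of_gg {M : X.Modules} (hM : PicF.IsInvertible M) (hgg : Curv2.IsGloballyGenerated M) (x : X) :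
    ∃ a : Γ(M, ⊤), x ∈ TrivBasic.locus a := by
  by_contra hcon
  push Not at hcon
  obtain ⟨ι, q, hq⟩ := hgg
  let j := X.fromSpecResidueField x
  let φ : M ⟶ (Scheme.Modules.pushforward j).obj ((Scheme.Modules.pullback j).obj M) :=
    (Scheme.Modules.pullbackPushforwardAdjunction j).unit.app M
  have hj : ∀ z, j z = x := fun z => by
    have hz : j z ∈ Set.range j := ⟨z, rfl⟩
    rwa [Scheme.range_fromSpecResidueField] at hz
  have hiM := PicClLib.isInvertible_pullback j hM
  have h0 : ∀ a : Γ(M, ⊤), φ.app ⊤ a = 0 := fun a => by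
    show (InvX.pullElt j a : Γ((Scheme.Modules.pullback j).obj M, j ⁻¹ᵁ ⊤)) = 0
    refine AmpleX.eq_zero_of_locus_eq_bot hiM _ ?_
    rw [AmpleX.locus_pullElt hM, eq_bot_iff]
    intro z hz
    obtain ⟨V, _, hxV, hV⟩ := AmpleX.mem_locus.1 (show j z ∈ AmpleX.locus a from hz)
    rw [hj z] at hxV
    exact absurd (TrivBasic.mem_locus_iff.2 ⟨V, hxV, hV⟩) (hcon a)
  have hφ0 : φ = 0 := by
    rw [← cancel_epi q, comp_zero]
    refine Sigma.hom_ext (f := fun _ : ι => SheafOfModules.unit X.ringCatSheaf) _ _ fun i => ?_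
    rw [comp_zero]
    refine CurveRR.hom_ext_one (φ := (Sigma.ι (fun _ : ι => SheafOfModules.unit X.ringCatSheaf) i ≫ q ≫ φ :
      Coh.structureModule X ⟶ _)) (ψ := 0) ?_
    exact h0 _
  obtain ⟨U, hxU, e, he⟩ := InvX.exists_frame hM x
  have hfr := InvX.isFrame_pullElt j he
  have he0 : InvX.pullElt j e = 0 := by
    show φ.app U e = 0
    rw [hφ0]
    rfl
  have h01 : (1 : Γ(Spec (X.residueField x), j ⁻¹ᵁ U)) = 0 := by
    refine (hfr _ le_rfl).1 ?_
    simp only [AModX.res_self, he0, smul_zero]
  obtain ⟨z⟩ : Nonempty (Spec (X.residueField x)) := inferInstance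
  have hz : z ∈ j ⁻¹ᵁ U := by
    show j z ∈ U
    rw [hj]; exact hxU
  rw [← Scheme.basicOpen_of_isUnit (Spec (X.residueField x)) (U := j ⁻¹ᵁ U) isUnit_one, h01,
    Scheme.basicOpen_zero] at hz
  exact hz

variable [IsIntegral X] [IsProper (X ↘ Spec (CommRingCat.of k))]

include k in
/-- A finite map to projective space by the sections of a globally generated module of positive degree. -/
theorem exists_finite_map (hdim : topologicalKrullDim X = 1) {L : X.Modules} (hL : PicF.IsInvertible L)
    (hdeg : 0 < Curv2.deg k X L 1) (hgg : Curv2.IsGloballyGenerated L)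
    {N : ℕ} (hN : Module.finrank k (Coh.HH X L 0) = N + 1) :
    ∃ r : X ⟶ CohB1.ProjSpace N k, r ≫ CohB1.ProjSpace.toSpec N k = X ↘ Spec (CommRingCat.of k) ∧ IsFinite r ∧
      Nonempty ((Scheme.Modules.pullback r).obj (Twist.twistProjSpace N k 1) ≅ L) := by
  classical
  haveI := CurveCohLib.isNoetherian_of_proper (k := k) (X := X)
  haveI := CurveCohLib.finite_HH (k := k) (CurveDeg.isCoh_of_isInvertible hL) 0
  let b := Module.finBasisOfFinrankEq k (Coh.HH X L 0) hN
  let e := Sheaf.H.equiv₀ (Coh.toAb L) isTerminalTop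
  let f := X ↘ Spec (CommRingCat.of k)
  let σ : Fin (N + 1) → Γ(L, ⊤) := fun j => (e (b j) : Γ(L, ⊤))
  have hspan : ∀ z : Γ(L, ⊤), ∃ c : Fin (N + 1) → k,
      z = ∑ j, f.appTop ((Scheme.ΓSpecIso (CommRingCat.of k)).inv (c j)) • σ j := fun z => by
    refine ⟨fun j => b.repr (e.symm z) j, ?_⟩
    conv_lhs => rw [← e.apply_symm_apply z, ← b.sum_repr (e.symm z)]
    refine (map_sum e _ _).trans (Finset.sum_congr rfl fun j _ => ?_)
    refine (CurveCohLib.h0Equiv_smul L _ _).trans ?_
    refine congrArg (· • σ j) ?_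
    exact ConcreteCategory.congr_hom (X.presheaf.map_id (op ⊤)) _
  have hcov : ∀ x : X, ∃ j, x ∈ TrivBasic.locus (σ j) := fun x => by
    by_contra! hne
    obtain ⟨z, hz⟩ := exists_locus_of_gg hL hgg x
    obtain ⟨V, hxV, fr, hfr⟩ := exists_frame hL x
    choose a ha using fun w : Γ(L, ⊤) => hfr.exists_coord le_rfl (AModX.res L (le_top : V ≤ ⊤) w)
    simp only [AModX.res_self] at ha
    have hnot : ∀ w, x ∈ TrivBasic.locus w ↔ IsUnit (X.presheaf.germ V x hxV (a w)) := fun w => by
      rw [← X.mem_basicOpen _ x hxV, ← TrivBasic.locus_eq_basicOpen hfr (ha w)]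
      exact ⟨fun h => ⟨h, hxV⟩, fun h => h.1⟩
    obtain ⟨c, rfl⟩ := hspan z
    refine (IsLocalRing.mem_maximalIdeal _).1 ?_ ((hnot _).1 hz)
    have hsum : a (∑ j, f.appTop ((Scheme.ΓSpecIso (CommRingCat.of k)).inv (c j)) • σ j) =
        ∑ j, AModX.resR (le_top : V ≤ ⊤) (f.appTop ((Scheme.ΓSpecIso (CommRingCat.of k)).inv (c j))) * a (σ j) := by
      refine hfr.coord_unique le_rfl ?_
      rw [AModX.res_self, ← ha, map_sum, Finset.sum_smul]
      exact Finset.sum_congr rfl fun j _ => by rw [AModX.res_smul, ha (σ j), mul_smul]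
    rw [hsum, map_sum]
    exact Ideal.sum_mem _ fun j _ => by
      rw [map_mul]
      exact Ideal.mul_mem_left _ _ ((IsLocalRing.mem_maximalIdeal _).2 fun h => hne j ((hnot _).2 h))
  obtain ⟨r, hr, τ, hτ⟩ := S3572.result N f L hL σ (AVAmple.generatedBy_of_locus σ hcov)
  haveI hp : IsProper (CohB1.ProjSpace.toSpec N k) := PnCoh.Chow.isProper_toSpec N k
  haveI : IsProper r := by
    haveI : IsProper (r ≫ CohB1.ProjSpace.toSpec N k) := hr ▸ ‹IsProper f›
    exact IsProper.of_comp r (CohB1.ProjSpace.toSpec N k)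
  haveI : JacobsonSpace X := LocallyOfFiniteType.jacobsonSpace f
  have hTw : PicF.IsInvertible (Twist.twistProjSpace N k 1) :=
    PnCoh.Finite.isInvertible_twist (fun j : ULift.{u} (Fin (N + 1)) => MvPolynomial.X j.down)
      (fun j => ProjPt.X_mem j.down) (by
        refine top_le_iff.1 ((AmpleEmbed.iSup_basicOpen_X N k).ge.trans (iSup_le fun j => ?_))
        exact le_iSup_of_le (ULift.up j) le_rfl) 1
  haveI : LocallyQuasiFinite r := AVAmple.locallyQuasiFinite_of_closed r fun q hq =>
    AVAmple.finite_preimage r hL hTw τ (CurveEmbed.finite_of_triv k hdim hdeg) q hq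
  exact ⟨r, hr, IsFinite.of_isProper_of_locallyQuasiFinite r, ⟨τ⟩⟩

include k in
/-- A pencil of degree two is base point free in positive genus. -/
theorem isGloballyGenerated_deg_two [Smooth (X ↘ Spec (CommRingCat.of k))]
    (hdim : topologicalKrullDim X = 1) (h0 : Module.finrank k (Coh.HH X (Coh.structureModule X) 0) = 1)
    (hg : 1 ≤ Curv2.genus k X) {L : X.Modules} (hL : PicF.IsInvertible L) (hdeg : Curv2.deg k X L 1 = 2)
    (hh : Module.finrank k (Coh.HH X L 0) = 2) : Curv2.IsGloballyGenerated L := by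
  obtain ⟨_, _, _, hd, _, _⟩ := CurveBC.bar_facts k X hdim h0
  haveI := quasiSeparatedSpace_of_quasiSeparated (X ↘ Spec (CommRingCat.of k))
  haveI := QuasiCompact.compactSpace_of_compactSpace (X ↘ Spec (CommRingCat.of k))
  haveI := CurveCohLib.isNoetherian_of_proper (k := k) (X := X)
  haveI := CurveCohLib.isNoetherian_of_proper (k := AlgebraicClosure k) (X := Curv2.bc k X (AlgebraicClosure k))
  have hpb := CurveBC.isPullback_bar k X
  let π := Curv2.bcFst k X (AlgebraicClosure k)
  have hq := ProjUPX.isQCoh_of_isInvertible hL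
  have hL' := PicClLib.isInvertible_pullback π hL
  have hdeg' : Curv2.deg (AlgebraicClosure k) _ ((Scheme.Modules.pullback π).obj L) 1 = 2 := by
    rw [CurveBC.deg_eq k (AlgebraicClosure k) π hpb L hq, hdeg]
  have hh' : Module.finrank (AlgebraicClosure k) (Coh.HH _ ((Scheme.Modules.pullback π).obj L) 0) = 2 := by
    rw [CurveBC.finrank_hh k (AlgebraicClosure k) π hpb L hq, hh]
  have hg' : 1 ≤ Curv2.genus (AlgebraicClosure k) (Curv2.bc k X (AlgebraicClosure k)) := by
    rwa [CurveBC.genus_eq k (AlgebraicClosure k) π hpb]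
  refine CurveBC.isGloballyGenerated_of_pullback k (AlgebraicClosure k) π hpb hq
    (CurveCohLib.finite_HH (k := k) (CurveDeg.isCoh_of_isInvertible hL) 0)
    (CurveCohLib.finite_HH (k := AlgebraicClosure k) (CurveDeg.isCoh_of_isInvertible hL') 0)
    (CurveCohLib.PointTwist.gg_of_lt (AlgebraicClosure k) hL' hd fun p hp => ?_)
  have hI := CurvePoint.isInvertible_ptMod p hp (AlgebraicClosure k) hd
  have hd1 := CurveRR.deg_tensor (AlgebraicClosure k) hd hL' hI
  rw [hdeg', CurvePoint.deg_ptMod p hp (AlgebraicClosure k)] at hd1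
  have h1 := CurveFF.h0_le_one_of_deg_one (AlgebraicClosure k) hd hg' (InvX.isInvertible_tensorMod hL' hI)
    (hd1.trans (by norm_num))
  change Module.finrank (AlgebraicClosure k)
    (Coh.HH _ ((DCoh.tensorBi.obj ((Scheme.Modules.pullback π).obj L)).obj (CurvePoint.ptMod p hp)) 0) ≤ 1 at h1
  omega

end Gen

section Line

variable {C : Scheme.{u}} [C.Over (Spec (CommRingCat.of k))] [IsIntegral C]
  (f : C ⟶ CohB1.ProjSpace 1 k) (hf : f ≫ CohB1.ProjSpace.toSpec 1 k = C ↘ Spec (CommRingCat.of k))
  [IsFinite f] (hη : f (genericPoint C) = genericPoint (CohB1.ProjSpace 1 k))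

include hη in
/-- A finite dominant map to the line is flat. -/
theorem flat_of_finite : Flat f := by
  have hcov : ⨆ i, D k i = (⊤ : (P1 k).Opens) := AmpleEmbed.iSup_basicOpen_X 1 k
  refine IsZariskiLocalAtTarget.of_iSup_eq_top (P := @Flat) (fun i => D k i) hcov fun i => ?_
  letI := CoverPush.alg f (D k i)
  obtain ⟨_, _, _⟩ := finite_free k f hη i
  have hU := isAffineOpen_D k i
  have e1 : Arrow.mk (f ∣_ D k i) ≅ Arrow.mk (Spec.map (f.app (D k i))) := by
    refine Arrow.isoMk (hU.preimage f).isoSpec hU.isoSpec (by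
      rw [← cancel_mono hU.fromSpec]
      show ((hU.preimage f).isoSpec.hom ≫ Spec.map (f.app (D k i))) ≫ hU.fromSpec =
        ((f ∣_ D k i) ≫ hU.isoSpec.hom) ≫ hU.fromSpec
      rw [Category.assoc, (CoverPush.isPullback_fromSpec f hU).w, Category.assoc, IsAffineOpen.isoSpec_hom_fromSpec,
        ← Category.assoc, IsAffineOpen.isoSpec_hom_fromSpec, morphismRestrict_ι])
  rw [MorphismProperty.arrow_mk_iso_iff @Flat e1, Flat.SpecMap_iff]
  exact (Module.Flat.of_free : Module.Flat Γ(P1 k, D k i) Γ(C, U k f i))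

include hη in
/-- The residue degree at the generic point is the rank over a chart. -/
theorem residueDegree_eq (i : Fin 2) :
    f.residueDegree (genericPoint C) =
      letI := CoverPush.alg f (D k i)
      Module.finrank Γ(P1 k, D k i) Γ(C, U k f i) := by
  letI := CoverPush.alg f (D k i)
  obtain ⟨_, _, _⟩ := finite_free k f hη i
  let K0 := (P1 k).presheaf.stalk (f (genericPoint C))
  let L := C.presheaf.stalk (genericPoint C)
  have hmem : f (genericPoint C) ∈ D k i := genericPoint_mem_U k f hη i
  let : Algebra Γ(P1 k, D k i) K0 := ((P1 k).presheaf.germ (D k i) _ hmem).hom.toAlgebra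
  let : Algebra Γ(C, U k f i) L := (fn k f hη i).toAlgebra
  let : Algebra K0 L := (f.stalkMap (genericPoint C)).hom.toAlgebra
  let : Algebra Γ(P1 k, D k i) L := ((fn k f hη i).comp (f.app (D k i)).hom).toAlgebra
  have : IsScalarTower Γ(P1 k, D k i) K0 L := .of_algebraMap_eq fun z => fn_app_germ k f hη i z
  have : IsScalarTower Γ(P1 k, D k i) Γ(C, U k f i) L := .of_algebraMap_eq' rfl
  have : IsFractionRing Γ(C, U k f i) L :=
    haveI : Nonempty (U k f i) := ⟨⟨genericPoint C, genericPoint_mem_U k f hη i⟩⟩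
    functionField_isFractionRing_of_isAffineOpen C (U k f i) ((isAffineOpen_D k i).preimage f)
  have : IsFractionRing Γ(P1 k, D k i) K0 := by
    have key : ∀ (y : P1 k) (_ : y = genericPoint (P1 k)) (h : y ∈ D k i),
        letI : Algebra Γ(P1 k, D k i) ((P1 k).presheaf.stalk y) := ((P1 k).presheaf.germ (D k i) y h).hom.toAlgebra
        IsFractionRing Γ(P1 k, D k i) ((P1 k).presheaf.stalk y) := by
      rintro y rfl h
      haveI : Nonempty (D k i) := ⟨⟨_, h⟩⟩
      exact functionField_isFractionRing_of_isAffineOpen (P1 k) (D k i) (isAffineOpen_D k i)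
    exact key _ hη hmem
  have : Algebra.IsIntegral Γ(P1 k, D k i) Γ(C, U k f i) := Algebra.IsIntegral.of_finite _ _
  have h1 : Module.finrank K0 L = Module.finrank Γ(P1 k, D k i) Γ(C, U k f i) := by
    have : Algebra.IsAlgebraic Γ(P1 k, D k i) Γ(C, U k f i) := Algebra.IsIntegral.isAlgebraic
    have : NoZeroDivisors Γ(C, U k f i) := (fn_injective k f hη i).noZeroDivisors _ (map_zero _) (map_mul _)
    exact congrArg Cardinal.toNat (Algebra.IsAlgebraic.rank_of_isFractionRing Γ(P1 k, D k i) K0 Γ(C, U k f i) L)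
  rw [← h1]
  let := (f.residueFieldMap (genericPoint C)).hom.toAlgebra
  refine ((Algebra.finrank_eq_of_equiv_equiv (RingEquiv.ofBijective _ (S11584.bijective_residue hη))
    (RingEquiv.ofBijective _ (S11584.bijective_residue (Y := C) rfl)) (RingHom.ext fun z => ?_))).symm
  exact congr($(Scheme.residue_residueFieldMap f (genericPoint C)) z)

include hf hη in
/-- A double cover of positive genus is separable at the generic point. -/
theorem isSeparable_residue [Smooth (C ↘ Spec (CommRingCat.of k))] (hrk : RankTwo k f)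
    (hg : 1 ≤ Curv2.genus k C) :
    letI := (f.residueFieldMap (genericPoint C)).hom.toAlgebra
    Algebra.IsSeparable ((CohB1.ProjSpace 1 k).residueField (f (genericPoint C))) (C.residueField (genericPoint C)) := by
  let := (f.residueFieldMap (genericPoint C)).hom.toAlgebra
  let := (f.stalkMap (genericPoint C)).hom.toAlgebra
  haveI := isSeparable_stalk k f hf hη hrk hg
  let : Field ((P1 k).presheaf.stalk (f (genericPoint C))) :=
    (show IsField ((P1 k).presheaf.stalk (f (genericPoint C))) by
      rw [hη]; exact Field.toIsField (P1 k).functionField).toField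
  let : Field (C.presheaf.stalk (genericPoint C)) := inferInstanceAs (Field C.functionField)
  let e1 := RingEquiv.ofBijective _ (S11584.bijective_residue hη)
  let e2 := RingEquiv.ofBijective _ (S11584.bijective_residue (Y := C) (y := genericPoint C) rfl)
  exact Algebra.IsSeparable.of_equiv_equiv e1 e2 (RingHom.ext fun z =>
    congr($(Scheme.residue_residueFieldMap f (genericPoint C)) z))

end Line

section Main

variable (X : Scheme.{u}) [X.Over (Spec (CommRingCat.of k))] [IsIntegral X]
  [IsProper (X ↘ Spec (CommRingCat.of k))] [Smooth (X ↘ Spec (CommRingCat.of k))]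

include k in
/-- The double cover defined by a pencil of degree two. -/
theorem exists_double_cover (hdim : topologicalKrullDim X = 1)
    (h0 : Module.finrank k (Coh.HH X (Coh.structureModule X) 0) = 1) (hg : 1 ≤ Curv2.genus k X)
    {L : X.Modules} (hL : PicF.IsInvertible L) (hdeg : Curv2.deg k X L 1 = 2)
    (hh : Module.finrank k (Coh.HH X L 0) = 2) :
    ∃ f : X ⟶ CohB1.ProjSpace 1 k, f ≫ CohB1.ProjSpace.toSpec 1 k = X ↘ Spec (CommRingCat.of k) ∧ IsFinite f ∧
      Flat f ∧ (∀ y : ↥(CohB1.ProjSpace 1 k), Scheme.Hom.finrank f y = 2) ∧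
      f (genericPoint X) = genericPoint (CohB1.ProjSpace 1 k) ∧ f.residueDegree (genericPoint X) = 2 ∧
      (letI := (f.residueFieldMap (genericPoint X)).hom.toAlgebra
      Algebra.IsSeparable ((CohB1.ProjSpace 1 k).residueField (f (genericPoint X)))
        (X.residueField (genericPoint X))) ∧
      Nonempty ((Scheme.Modules.pullback f).obj (P1Bundle.tw k 1) ≅ L) := by
  obtain ⟨f, hf, hfin, ⟨τ⟩⟩ := exists_finite_map k hdim hL (by omega)
    (isGloballyGenerated_deg_two k hdim h0 hg hL hdeg hh) (N := 1) hh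
  haveI := hfin
  haveI : IsProper (CohB1.ProjSpace.toSpec 1 k) := PnCoh.Chow.isProper_toSpec 1 k
  haveI : IsLocallyNoetherian (CohB1.ProjSpace 1 k) :=
    LocallyOfFiniteType.isLocallyNoetherian (CohB1.ProjSpace.toSpec 1 k)
  have hη := S11584.generic_of_finite (P1Bundle.hdim k).le f hdim
  haveI := flat_of_finite k f hη
  haveI : LocallyOfFinitePresentation f := inferInstance
  have hd := CurveBC.deg_pullback k f (P1Bundle.hdim k) hf (P1Bundle.inv_tw k 1)
  rw [CurveRR.deg_congr k τ 1, hdeg,
    CurveSlope.deg_eq_dg k (InvEnd.isFinLocFreeOfRank_one (P1Bundle.inv_tw k 1)), P1Bundle.dg_tw, mul_one] at hd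
  have hc : CurveBC.coverDeg f = 2 := by exact_mod_cast hd.symm
  have hrk : ∀ y : ↥(CohB1.ProjSpace 1 k), Scheme.Hom.finrank f y = 2 :=
    ((CoverPush.isCover_iff f).2 ⟨inferInstance, hc ▸ CurveBC.isFinLocFreeOfRank_push f⟩).2
  have h2 : RankTwo k f := fun i => by
    let := CoverPush.alg f (D k i)
    obtain ⟨_, _, _⟩ := finite_free k f hη i
    have h := (CoverPush.finrank_eq f (isAffineOpen_D k i) (genericPoint_mem_D k i)).symm.trans (hrk _)
    rwa [Module.rankAtStalk_eq_finrank_of_free] at h
  exact ⟨f, hf, hfin, inferInstance, hrk, hη, (residueDegree_eq k f hη 0).trans (h2 0),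
    isSeparable_residue k f hf hη h2 hg, ⟨τ⟩⟩

end Main

section Rational

variable {X : Scheme.{u}} [X.Over (Spec (CommRingCat.of k))] [IsIntegral X]
  [IsProper (X ↘ Spec (CommRingCat.of k))] [Smooth (X ↘ Spec (CommRingCat.of k))]

include k in
/-- An invertible module of degree two in genus one has two sections. -/
theorem h0_eq_two_genus_one (hdim : topologicalKrullDim X = 1)
    (h0 : Module.finrank k (Coh.HH X (Coh.structureModule X) 0) = 1) (hg : Curv2.genus k X = 1)
    {L : X.Modules} (hL : PicF.IsInvertible L) (hdeg : Curv2.deg k X L 1 = 2) :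
    Module.finrank k (Coh.HH X L 0) = 2 := by
  obtain ⟨_, _, _, hd, _, _⟩ := CurveBC.bar_facts k X hdim h0
  haveI := quasiSeparatedSpace_of_quasiSeparated (X ↘ Spec (CommRingCat.of k))
  haveI := QuasiCompact.compactSpace_of_compactSpace (X ↘ Spec (CommRingCat.of k))
  have hpb := CurveBC.isPullback_bar k X
  let π := Curv2.bcFst k X (AlgebraicClosure k)
  have hq := ProjUPX.isQCoh_of_isInvertible hL
  have hL' := PicClLib.isInvertible_pullback π hL
  have h1 := CurveCohLib.Clifford.deg_eq (AlgebraicClosure k) hd hL'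
  rw [CurveBC.deg_eq k (AlgebraicClosure k) π hpb L hq, hdeg, CurveBC.genus_eq k (AlgebraicClosure k) π hpb, hg] at h1
  by_contra hne
  rw [← CurveBC.finrank_hh k (AlgebraicClosure k) π hpb L hq] at hne
  rcases CurveCohLib.Clifford.dichotomy (AlgebraicClosure k) hd hL' (m := 2) (by omega) with h | h <;>
    rw [CurveBC.deg_eq k (AlgebraicClosure k) π hpb L hq, hdeg] at h
  · rw [CurveBC.genus_eq k (AlgebraicClosure k) π hpb, hg] at h
    omega
  · omega

include k in
/-- The residue field of a rational point is the base field. -/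
theorem surjective_resMap_of_section {p : X} (s : Spec (CommRingCat.of k) ⟶ X)
    (hs : s ≫ (X ↘ Spec (CommRingCat.of k)) = 𝟙 _) (hp : p ∈ Set.range s) :
    Function.Surjective (Curv2.resMap k X p) := by
  obtain ⟨⟨x, φ⟩, hφ⟩ := (Scheme.SpecToEquivOfField k X).symm.surjective s
  have hsx : Spec.map φ ≫ X.fromSpecResidueField x = s := hφ
  obtain ⟨z, rfl⟩ := hp
  obtain rfl : x = s z := by
    have h : X.fromSpecResidueField x (Spec.map φ z) = s z := congr($hsx z)
    have h' : X.fromSpecResidueField x (Spec.map φ z) ∈ Set.range (X.fromSpecResidueField x) := ⟨_, rfl⟩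
    rw [Scheme.range_fromSpecResidueField, Set.mem_singleton_iff] at h'
    exact h'.symm.trans h
  have h : CommRingCat.ofHom (Curv2.resMap k X (s z)) ≫ φ = 𝟙 (CommRingCat.of k) :=
    Spec.map_injective (by
      rw [Spec.map_comp, ← GeomConn5.spec_resMap, ← Category.assoc, hsx, hs, Spec.map_id])
  intro y
  exact ⟨φ y, φ.hom.injective (congr($h (φ y)))⟩

include k in
/-- A rational point gives an invertible module of degree one. -/
theorem exists_deg_one_of_section (hdim : topologicalKrullDim X = 1) (s : Spec (CommRingCat.of k) ⟶ X)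
    (hs : s ≫ (X ↘ Spec (CommRingCat.of k)) = 𝟙 _) :
    ∃ J : X.Modules, PicF.IsInvertible J ∧ Curv2.deg k X J 1 = 1 := by
  classical
  haveI := CurveCohLib.isNoetherian_of_proper (k := k) (X := X)
  haveI : IsClosedImmersion (s ≫ (X ↘ Spec (CommRingCat.of k))) := hs ▸ inferInstance
  haveI : IsClosedImmersion s := IsClosedImmersion.of_comp s (X ↘ Spec (CommRingCat.of k))
  obtain ⟨z⟩ : Nonempty (Spec (CommRingCat.of k)) := inferInstance
  let p := s z
  haveI : Subsingleton (Spec (CommRingCat.of k)) := inferInstanceAs (Subsingleton (PrimeSpectrum k))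
  have hp : IsClosed ({p} : Set X) := by
    have : Set.range s = {p} := Set.eq_singleton_iff_unique_mem.2
      ⟨⟨z, rfl⟩, fun _ ⟨w, hw⟩ => hw ▸ congrArg (fun v => s v) (Subsingleton.elim w z)⟩
    exact this ▸ s.isClosedEmbedding.isClosed_range
  let Q := ClSub.quotMod (CurvePoint.ptIdeal p hp)
  obtain ⟨he, hfin⟩ := CurveCohLib.euler_eq_sum_stalks (k := k) (CurvePoint.isCoh_quot p hp k)
    (CurvePoint.closed_support p hp) {p} (by simpa using CurvePoint.support_quot_subset p hp)
  rw [Finset.sum_singleton] at he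
  letI := CurveCohLib.stalkModuleK k Q p
  haveI := hfin p (Finset.mem_singleton_self p)
  haveI : Nontrivial (Q.presheaf.stalk p) :=
    not_subsingleton_iff_nontrivial.1 (CurvePoint.not_subsingleton_stalk p hp)
  obtain ⟨q₀, hq₀⟩ : ∃ q₀ : Q.presheaf.stalk p, ∀ q, ∃ a : X.presheaf.stalk p, q = a • q₀ :=
    ParShLib.exists_germ_smul (CurvePoint.ptIdeal p hp) p
  let L : k →ₗ[k] Q.presheaf.stalk p :=
    { toFun := fun c => Curv2.stalkMap k X p c • q₀
      map_add' := fun c d => by rw [map_add, add_smul]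
      map_smul' := fun a c => by
        show Curv2.stalkMap k X p (a * c) • q₀ = Curv2.stalkMap k X p a • (Curv2.stalkMap k X p c • q₀)
        rw [map_mul, mul_smul] }
  have hL : Function.Surjective L := fun q => by
    obtain ⟨a, ha⟩ := hq₀ q
    obtain ⟨c, hc⟩ := surjective_resMap_of_section k s hs ⟨z, rfl⟩ (X.residue p a)
    refine ⟨c, ?_⟩
    have h0 := CurvePoint.smul_quot_eq_zero p hp (Ideal.Quotient.eq.1 hc.symm) q₀
    rw [sub_smul, sub_eq_zero] at h0
    exact h0.symm.trans (ha.symm : a • q₀ = q)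
  have h1 := LinearMap.finrank_le_finrank_of_surjective hL
  have h2 : 0 < Module.finrank k (Q.presheaf.stalk p) := Module.finrank_pos
  rw [Module.finrank_self] at h1
  have h3 : Module.finrank k (Q.presheaf.stalk p) = 1 := le_antisymm h1 h2
  rw [h3] at he
  have hd : Curv2.deg k X (CurvePoint.ptMod p hp) 1 = -1 := by
    have h := CurveBundle.euler_add' k _ _ _ (CurvePoint.shortExact_pt p hp) (CurvePoint.isCoh_ptMod p hp k)
      QCoh.isCoh_structureModule' (CurvePoint.isCoh_quot p hp k)
    rw [he] at h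
    unfold Curv2.deg
    push_cast at h ⊢
    linarith
  obtain ⟨J, hJ, hdJ, -⟩ := CurveDuality.exists_inverse_deg k hdim (CurvePoint.isInvertible_ptMod p hp k hdim)
  exact ⟨J, hJ, by omega⟩

end Rational

end Groth.Agent.HyperellLib
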