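import Groth.Agent.QCoh.CechMod
import Groth.Agent.QCoh.CechComparison
import Mathlib.Algebra.Homology.ShortComplex.ModuleCat

/-!
First cohomology from a covering by two affine opens with affine intersection.
-/

set_option backward.isDefEq.respectTransparency false
set_option backward.isDefEq.respectTransparency.types false

universe u

open CategoryTheory CategoryTheory.Limits AlgebraicGeometry TopologicalSpace Opposite

noncomputable section

namespace Groth.Agent.HyperellLib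

open Groth.Agent.QCoh

variable {X : Scheme.{u}}

/-- The two-member family. -/
abbrev pair (U V : X.Opens) : ULift.{u} Bool → X.Opens := fun i => bif i.down then V else U

theorem iInf_pair {U V : X.Opens} {p : ℕ} (σ : Fin (p + 1) → ULift.{u} Bool) :
    (⨅ a, pair U V (σ a)) = U ∨ (⨅ a, pair U V (σ a)) = V ∨ (⨅ a, pair U V (σ a)) = U ⊓ V := by
  by_cases h0 : ∀ a, (σ a).down = false
  · exact Or.inl (le_antisymm ((iInf_le _ 0).trans_eq (by simp [pair, h0 0])) (le_iInf fun a => by simp [pair, h0 a]))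
  by_cases h1 : ∀ a, (σ a).down = true
  · exact Or.inr (Or.inl
      (le_antisymm ((iInf_le _ 0).trans_eq (by simp [pair, h1 0])) (le_iInf fun a => by simp [pair, h1 a])))
  push Not at h0 h1
  obtain ⟨a, ha⟩ := h0
  obtain ⟨b, hb⟩ := h1
  refine Or.inr (Or.inr (le_antisymm (le_inf ?_ ?_) (le_iInf fun c => ?_)))
  · exact (iInf_le _ b).trans_eq (by simp [pair, Bool.eq_false_iff.2 hb])
  · exact (iInf_le _ a).trans_eq (by simp [pair, (Bool.not_eq_false _).mp ha])
  · cases h : (σ c).down <;> simp [pair, h]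

theorem d_one {ι : Type u} {P : TopCat.Presheaf AddCommGrpCat.{u} X} {W : ι → X.Opens}
    (z : Ab.Cochain P W 1) (σ : Fin 2 → ι) (A : X.Opens) (h : Ab.Le W σ A) :
    Ab.d z σ ⟨A, h⟩ = z ![σ 1] ⟨A, fun a => by fin_cases a; exact h 1⟩ -
      z ![σ 0] ⟨A, fun a => by fin_cases a; exact h 0⟩ := by
  have hcongr : ∀ {s s' : Fin 1 → ι} (hs : Ab.Le W s A) (hs' : Ab.Le W s' A), s = s' →
      z s ⟨A, hs⟩ = z s' ⟨A, hs'⟩ := fun hs hs' e => by subst e; rfl
  refine (Fin.sum_univ_two _).trans ?_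
  simp only [Fin.val_zero, Fin.val_one, pow_zero, pow_one, one_smul, neg_one_smul, sub_eq_add_neg]
  exact congrArg₂ (· + ·) (hcongr _ _ (by funext b; fin_cases b; rfl))
    (congrArg Neg.neg (hcongr _ _ (by funext b; fin_cases b; rfl)))

theorem d_two {ι : Type u} {P : TopCat.Presheaf AddCommGrpCat.{u} X} {W : ι → X.Opens}
    (c : Ab.Cochain P W 2) (σ : Fin 3 → ι) (A : X.Opens) (h : Ab.Le W σ A) :
    Ab.d c σ ⟨A, h⟩ = c ![σ 1, σ 2] ⟨A, fun a => by fin_cases a; exacts [h 1, h 2]⟩ -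
      c ![σ 0, σ 2] ⟨A, fun a => by fin_cases a; exacts [h 0, h 2]⟩ +
      c ![σ 0, σ 1] ⟨A, fun a => by fin_cases a; exacts [h 0, h 1]⟩ := by
  have hcongr : ∀ {s s' : Fin 2 → ι} (hs : Ab.Le W s A) (hs' : Ab.Le W s' A), s = s' →
      c s ⟨A, hs⟩ = c s' ⟨A, hs'⟩ := fun hs hs' e => by subst e; rfl
  refine (Fin.sum_univ_three _).trans ?_
  simp only [Fin.val_zero, Fin.val_one, Fin.val_two, pow_zero, pow_one,
    neg_one_sq, one_smul, neg_one_smul, sub_eq_add_neg]
  exact congrArg₂ (· + ·) (congrArg₂ (· + ·) (hcongr _ _ (by funext b; fin_cases b <;> rfl))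
    (congrArg Neg.neg (hcongr _ _ (by funext b; fin_cases b <;> rfl))))
    (hcongr _ _ (by funext b; fin_cases b <;> rfl))

open Classical in
theorem finrank_HH_one_two {k : Type u} [Field k] (X : Scheme.{u}) [X.Over (Spec (CommRingCat.of k))]
    (U V : X.Opens) (hU : IsAffineOpen U) (hV : IsAffineOpen V) (hUV : IsAffineOpen (U ⊓ V))
    (hcov : U ⊔ V = ⊤) (M : X.Modules) (hM : Coh.IsQCoh M)
    {Q : Type*} [AddCommGroup Q] [Module k Q] (q : M.presheaf.obj (op (U ⊓ V)) →+ Q)
    (hlin : ∀ (c : k) (x : M.presheaf.obj (op (U ⊓ V))),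
      q ((Coh.smulAb M (Coh.toGlobal (X ↘ Spec (CommRingCat.of k)) c)).hom.app (op (U ⊓ V)) x) = c • q x)
    (hsurj : Function.Surjective q)
    (hker : ∀ x, q x = 0 ↔ ∃ (a : M.presheaf.obj (op U)) (b : M.presheaf.obj (op V)),
      x = M.presheaf.map (homOfLE inf_le_right).op b - M.presheaf.map (homOfLE inf_le_left).op a) :
    Module.finrank k (Coh.HH X M 1) = Module.finrank k Q := by
  let ρ := Coh.toGlobal (X ↘ Spec (CommRingCat.of k))
  let P := M.presheaf
  let W := pair U V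
  have hW : ⨆ i, W i = ⊤ := by
    rw [← hcov]
    refine le_antisymm (iSup_le fun i => ?_) (sup_le ?_ ?_)
    · rcases i with ⟨_ | _⟩
      · exact le_sup_left
      · exact le_sup_right
    · exact le_iSup W ⟨false⟩
    · exact le_iSup W ⟨true⟩
  have haff : ∀ {p : ℕ} (σ : Fin (p + 1) → ULift.{u} Bool), IsAffineOpen (⨅ a, W (σ a)) := fun σ => by
    rcases iInf_pair (U := U) (V := V) σ with h | h | h <;> rw [h] <;> assumption
  let K := cxMod ρ W M
  obtain ⟨e⟩ := cxMod_homology_equiv ρ W hW haff hM 1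
  have hd : ∀ (p : ℕ) (c : K.X p), (show Ab.natCochains P W (p + 2) from (K.d p (p + 1)).hom c).1 =
      Ab.d (show Ab.natCochains P W (p + 1) from c).1 := fun p c =>
    congrArg Subtype.val (ConcreteCategory.congr_hom (Ab.natCx_d P W p) c)
  let σ01 : Fin 2 → ULift.{u} Bool := ![⟨false⟩, ⟨true⟩]
  have hle : Ab.Le W σ01 (U ⊓ V) := fun a => by
    fin_cases a
    · exact inf_le_left
    · exact inf_le_right
  let f : K.X 0 ⟶ K.X 1 := K.d 0 1
  let g : K.X 1 ⟶ K.X 2 := K.d 1 2
  let S : ShortComplex (ModuleCat.{u} k) := ShortComplex.mk f g (K.d_comp_d 0 1 2)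
  let Φ : LinearMap.ker g.hom →ₗ[k] Q :=
    { toFun := fun c => q ((show Ab.natCochains P W 2 from c.1).1 σ01 ⟨U ⊓ V, hle⟩)
      map_add' := fun a b => map_add q _ _
      map_smul' := fun r a => hlin r _ }
  have hΦs : Function.Surjective Φ := fun z => by
    obtain ⟨a, rfl⟩ := hsurj z
    let c : Ab.Cochain P W 2 := fun σ Wo =>
      if h : σ 0 = ⟨false⟩ ∧ σ 1 = ⟨true⟩ then
        P.map (homOfLE (le_inf ((Wo.2 0).trans_eq (by simp [W, pair, h.1]))
          ((Wo.2 1).trans_eq (by simp [W, pair, h.2])))).op a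
      else if h' : σ 0 = ⟨true⟩ ∧ σ 1 = ⟨false⟩ then
        - P.map (homOfLE (le_inf ((Wo.2 1).trans_eq (by simp [W, pair, h'.2]))
          ((Wo.2 0).trans_eq (by simp [W, pair, h'.1])))).op a
      else 0
    have hc : Ab.IsNatural c := by
      intro σ A B hA hB i
      simp only [c]
      split_ifs with h h'
      · exact Ab.map_map'' P _ _ _ _
      · rw [map_neg]
        exact congrArg Neg.neg (Ab.map_map'' P _ _ _ _)
      · exact map_zero _
    have hcc : Ab.d c = 0 := by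
      funext σ Wo
      obtain ⟨A, hA⟩ := Wo
      obtain ⟨i, j, l, rfl⟩ : ∃ i j l, σ = ![i, j, l] := ⟨σ 0, σ 1, σ 2, by ext a; fin_cases a <;> rfl⟩
      rw [d_two]
      rcases i with ⟨_ | _⟩ <;> rcases j with ⟨_ | _⟩ <;> rcases l with ⟨_ | _⟩ <;> simp [c]
    refine ⟨⟨(⟨c, hc⟩ : Ab.natCochains P W 2), LinearMap.mem_ker.2 (Subtype.ext ((hd 1 _).trans hcc))⟩, ?_⟩
    show q (c σ01 ⟨U ⊓ V, hle⟩) = q a
    refine congrArg q ?_
    simp only [c, σ01]
    rw [dif_pos ⟨rfl, rfl⟩]
    exact Ab.map_self P _ _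
  have hΦk : LinearMap.ker Φ = LinearMap.range S.moduleCatToCycles := by
    refine le_antisymm (fun c hc => ?_) ?_
    · have hdc : Ab.d (show Ab.natCochains P W 2 from c.1).1 = 0 :=
        (hd 1 c.1).symm.trans (congrArg Subtype.val (LinearMap.mem_ker.1 c.2 : g.hom c.1 = 0))
      obtain ⟨a, b, hab⟩ := (hker _).1 (LinearMap.mem_ker.1 hc)
      obtain ⟨c0, hcz⟩ := c
      obtain ⟨c, hcn⟩ := (c0 : Ab.natCochains P W 2)
      let sec : (i : ULift.{u} Bool) → P.obj (op (W i)) := fun i => match i with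
        | ⟨false⟩ => a
        | ⟨true⟩ => b
      let z : Ab.Cochain P W 1 := fun σ Wo => P.map (homOfLE (Wo.2 0)).op (sec (σ 0))
      have hz : Ab.IsNatural z := fun σ A B hA hB i => Ab.map_map'' P _ _ _ _
      refine ⟨(⟨z, hz⟩ : Ab.natCochains P W 1), Subtype.ext (Subtype.ext ((hd 0 _).trans ?_))⟩
      have hdia : ∀ (i : ULift.{u} Bool) (A : X.Opens) (h : Ab.Le W ![i, i] A), c ![i, i] ⟨A, h⟩ = 0 := by
        intro i A h
        have h1 := congrFun (congrFun hdc ![i, i, i]) ⟨A, fun a => by fin_cases a <;> exact h 0⟩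
        rw [d_two, Pi.zero_apply] at h1
        simpa using h1
      funext σ Wo
      obtain ⟨A, hA⟩ := Wo
      obtain ⟨i, j, rfl⟩ : ∃ i j, σ = ![i, j] := ⟨σ 0, σ 1, by ext a; fin_cases a <;> rfl⟩
      refine (d_one z _ A hA).trans ?_
      show P.map _ (sec j) - P.map _ (sec i) = c ![i, j] ⟨A, hA⟩
      have key : ∀ (h : Ab.Le W σ01 A), c σ01 ⟨A, h⟩ = P.map (homOfLE (h 1)).op b - P.map (homOfLE (h 0)).op a := by
        intro h
        rw [← hcn σ01 (U ⊓ V) A hle h (homOfLE (le_inf (h 0) (h 1)))]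
        refine (congrArg _ hab).trans ?_
        rw [map_sub]
        exact congrArg₂ (· - ·) (Ab.map_map'' P _ _ _ _) (Ab.map_map'' P _ _ _ _)
      rcases i with ⟨_ | _⟩ <;> rcases j with ⟨_ | _⟩
      · exact (sub_self _).trans (hdia _ A hA).symm
      · exact (key hA).symm
      · have h01 : Ab.Le W σ01 A := fun a => by
          fin_cases a
          · exact hA 1
          · exact hA 0
        have h010 : Ab.Le W ![(⟨false⟩ : ULift.{u} Bool), ⟨true⟩, ⟨false⟩] A := fun a => by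
          fin_cases a
          · exact hA 1
          · exact hA 0
          · exact hA 1
        have h1 := congrFun (congrFun hdc ![(⟨false⟩ : ULift.{u} Bool), ⟨true⟩, ⟨false⟩]) ⟨A, h010⟩
        rw [d_two, Pi.zero_apply] at h1
        have h2 : c ![⟨true⟩, ⟨false⟩] ⟨A, hA⟩ + c σ01 ⟨A, h01⟩ = 0 := by
          refine Eq.trans ?_ h1
          exact (congrArg (fun w => w + c σ01 ⟨A, h01⟩) (sub_eq_self.2 (hdia ⟨false⟩ A _)).symm)
        show _ = c _ _
        refine Eq.trans ?_ (eq_neg_of_add_eq_zero_left h2).symm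
        rw [key h01, neg_sub]
        rfl
      · exact (sub_self _).trans (hdia _ A hA).symm
    · rintro _ ⟨z, rfl⟩
      rw [LinearMap.mem_ker]
      show q ((show Ab.natCochains P W 2 from f.hom z).1 σ01 ⟨U ⊓ V, hle⟩) = 0
      rw [hd 0 z, hker]
      refine ⟨(show Ab.natCochains P W 1 from z).1 ![⟨false⟩] ⟨U, fun a => by fin_cases a; exact le_rfl⟩,
        (show Ab.natCochains P W 1 from z).1 ![⟨true⟩] ⟨V, fun a => by fin_cases a; exact le_rfl⟩, ?_⟩
      obtain ⟨z, hz⟩ := z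
      dsimp only
      rw [hz _ V (U ⊓ V) _ (fun a => by fin_cases a; exact inf_le_right) (homOfLE inf_le_right),
        hz _ U (U ⊓ V) _ (fun a => by fin_cases a; exact inf_le_left) (homOfLE inf_le_left)]
      rw [d_one]
      rfl
  let i : K.homology 1 ≅ S.moduleCatLeftHomologyData.H :=
    (K.homologyIsoSc' 0 1 2 (by simp) (by simp)) ≪≫ S.moduleCatHomologyIso
  let := modHH ρ M 1
  exact (e.symm.trans (i.toLinearEquiv.trans
    ((Submodule.quotEquivOfEq _ _ hΦk.symm).trans (LinearMap.quotKerEquivOfSurjective Φ hΦs)))).finrank_eq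

end Groth.Agent.HyperellLib
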