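import Mathlib.RingTheory.Algebraic.Basic
import Mathlib.Algebra.Polynomial.Reverse
import Mathlib.Algebra.Polynomial.AlgebraMap
import Mathlib.Algebra.Polynomial.Div
import Mathlib.LinearAlgebra.LinearIndependent.Basic
import Mathlib.RingTheory.Polynomial.UniqueFactorization
import Mathlib.Algebra.CharP.Basic
import Mathlib.Tactic

/-!
Two free rank-two rings over `k[t]` and `k[1/t]` glued in a field: the normal form of a hyperelliptic
equation.
-/

noncomputable section

open Polynomial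

namespace Groth.Agent.HyperellLib

variable {k K : Type*} [Field k] [Field K] [Algebra k K]

variable (k) in
/-- `k[t] + k[t]·y`. -/
def span2 (t y : K) : Submodule k K :=
  LinearMap.range ((aeval t).toLinearMap.coprod ((LinearMap.mulRight k y).comp (aeval t).toLinearMap) :
    k[X] × k[X] →ₗ[k] K)

theorem mem_span2 {t y z : K} : z ∈ span2 k t y ↔ ∃ p r : k[X], aeval t p + aeval t r * y = z := by
  simp [span2, Prod.exists]

variable (k) in
/-- `1, y` are independent over `k[t]`. -/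
def Indep (t y : K) : Prop := ∀ p r : k[X], aeval t p + aeval t r * y = 0 → p = 0 ∧ r = 0

/-- The data of two charts. -/
structure Pair (k : Type*) {K : Type*} [Field k] [Field K] [Algebra k K] (t y0 y1 : K) : Prop where
  ne_zero : t ≠ 0
  indep0 : Indep k t y0
  indep1 : Indep k t⁻¹ y1
  sq0 : y0 ^ 2 ∈ span2 k t y0
  sq1 : y1 ^ 2 ∈ span2 k t⁻¹ y1
  h10 : ∃ n : ℕ, t ^ n * y1 ∈ span2 k t y0
  h01 : ∃ n : ℕ, t⁻¹ ^ n * y0 ∈ span2 k t⁻¹ y1

variable {t y0 y1 : K}

theorem Indep.aeval_ne_zero (h : Indep k t y0) {p : k[X]} (hp : p ≠ 0) : aeval t p ≠ 0 := fun e =>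
  hp (h p 0 (by rw [e, map_zero, zero_mul, add_zero])).1

theorem Indep.aeval_injective (h : Indep k t y0) {p q : k[X]} (e : aeval t p = aeval t q) : p = q :=
  sub_eq_zero.1 (h (p - q) 0 (by simp [e])).1

theorem aeval_reflect (t : K) (ht : t ≠ 0) {N : ℕ} {p : k[X]} (hp : p.natDegree ≤ N) :
    aeval t (reflect N p) = t ^ N * aeval t⁻¹ p := by
  refine Polynomial.induction_with_natDegree_le
    (fun p => aeval t (reflect N p) = t ^ N * aeval t⁻¹ p) N (by simp) (fun n r _ hn => ?_)
    (fun f g _ _ hf hg => by simp [reflect_add, hf, hg, mul_add]) p hp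
  rw [reflect_C_mul_X_pow, revAt_le hn]
  simp only [map_mul, aeval_C, map_pow, aeval_X, inv_pow, pow_sub₀ t ht hn]
  ring

theorem natDegree_le_of_aeval_eq (h : Indep k t y0) (ht : t ≠ 0) {N : ℕ} {p q : k[X]}
    (e : aeval t p = t ^ N * aeval t⁻¹ q) : p.natDegree ≤ N := by
  rcases eq_or_ne p 0 with rfl | hp
  · simp
  have e1 : p * X ^ q.natDegree = X ^ N * reflect q.natDegree q := h.aeval_injective (by
    simp only [map_mul, map_pow, aeval_X, aeval_reflect t ht le_rfl, e]
    ring)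
  have h2 : (X ^ N * reflect q.natDegree q).natDegree ≤ N + q.natDegree := by
    refine natDegree_mul_le.trans (add_le_add (by simp) ?_)
    exact (natDegree_reflect_le).trans (by simp)
  rw [← e1, natDegree_mul hp (pow_ne_zero _ X_ne_zero), natDegree_X_pow] at h2
  omega

variable (k) in
/-- Laurent combinations of powers of `t`. -/
def laur (t : K) : (ℤ →₀ k) →ₗ[k] K := Finsupp.linearCombination k fun i : ℤ => t ^ i

theorem laur_single (t : K) (i : ℤ) (a : k) : laur k t (Finsupp.single i a) = a • t ^ i := by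
  simp [laur]

theorem laur_mul_zpow (ht : t ≠ 0) (α : ℤ →₀ k) (i : ℤ) :
    laur k t α * t ^ i ∈ LinearMap.range (laur k t) := by
  induction α using Finsupp.induction_linear with
  | zero => simp
  | add f g hf hg => rw [map_add, add_mul]; exact add_mem hf hg
  | single j a => exact ⟨Finsupp.single (j + i) a, by rw [laur_single, laur_single, zpow_add₀ ht, smul_mul_assoc]⟩

theorem laur_mul_mem (ht : t ≠ 0) {x z : K} (hx : x ∈ LinearMap.range (laur k t))
    (hz : z ∈ LinearMap.range (laur k t)) : x * z ∈ LinearMap.range (laur k t) := by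
  obtain ⟨α, rfl⟩ := hx
  obtain ⟨β, rfl⟩ := hz
  induction β using Finsupp.induction_linear with
  | zero => simp
  | add f g hf hg => rw [map_add, mul_add]; exact add_mem hf hg
  | single j a =>
    rw [laur_single, mul_smul_comm]
    exact Submodule.smul_mem _ _ (laur_mul_zpow ht α j)

theorem zpow_mem (t : K) (i : ℤ) : t ^ i ∈ LinearMap.range (laur k t) :=
  ⟨Finsupp.single i 1, by rw [laur_single, one_smul]⟩

theorem aeval_mem (t : K) (p : k[X]) : aeval t p ∈ LinearMap.range (laur k t) := by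
  induction p using Polynomial.induction_on' with
  | add p q hp hq => rw [map_add]; exact add_mem hp hq
  | monomial n a => exact ⟨Finsupp.single (n : ℤ) a, by
      rw [laur_single, zpow_natCast, aeval_monomial, Algebra.smul_def]⟩

theorem aeval_inv_mem (t : K) (p : k[X]) : aeval t⁻¹ p ∈ LinearMap.range (laur k t) := by
  induction p using Polynomial.induction_on' with
  | add p q hp hq => rw [map_add]; exact add_mem hp hq
  | monomial n a => exact ⟨Finsupp.single (-(n : ℤ)) a, by
      rw [laur_single, zpow_neg, zpow_natCast, aeval_monomial, Algebra.smul_def, inv_pow]⟩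

/-- Every Laurent combination times a high power of `t⁻¹` is a polynomial in `t⁻¹`. -/
theorem exists_inv_poly (ht : t ≠ 0) (α : ℤ →₀ k) (N : ℕ) (hN : ∀ i ∈ α.support, i ≤ N) :
    ∃ p : k[X], aeval t⁻¹ p = t⁻¹ ^ N * laur k t α := by
  refine ⟨∑ i ∈ α.support, monomial ((N : ℤ) - i).toNat (α i), ?_⟩
  rw [map_sum, laur, Finsupp.linearCombination_apply, Finsupp.sum, Finset.mul_sum]
  refine Finset.sum_congr rfl fun i hi => ?_
  rw [aeval_monomial, Algebra.smul_def, ← zpow_natCast, ← zpow_natCast t⁻¹ N,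
    Int.toNat_of_nonneg (by have := hN i hi; omega), inv_zpow', inv_zpow', mul_left_comm, ← zpow_add₀ ht]
  congr 2
  omega

theorem laur_injective (h : Indep k t⁻¹ y1) (ht : t ≠ 0) : Function.Injective (laur k t) := by
  rw [injective_iff_map_eq_zero]
  intro α hα
  obtain ⟨N, hN⟩ : ∃ N : ℕ, ∀ i ∈ α.support, i ≤ N :=
    ⟨α.support.sup Int.toNat, fun i hi => (Int.self_le_toNat i).trans (by exact_mod_cast Finset.le_sup hi)⟩
  have hp : (∑ i ∈ α.support, monomial ((N : ℤ) - i).toNat (α i) : k[X]) = 0 := by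
    refine (h _ 0 ?_).1
    rw [map_zero, zero_mul, add_zero, map_sum]
    have : t⁻¹ ^ N * laur k t α = 0 := by rw [hα, mul_zero]
    rw [← this, laur, Finsupp.linearCombination_apply, Finsupp.sum, Finset.mul_sum]
    refine Finset.sum_congr rfl fun i hi => ?_
    rw [aeval_monomial, Algebra.smul_def, ← zpow_natCast, ← zpow_natCast t⁻¹ N,
      Int.toNat_of_nonneg (by have := hN i hi; omega), inv_zpow', inv_zpow', mul_left_comm, ← zpow_add₀ ht]
    congr 2
    omega
  ext i
  by_contra hi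
  have h2 := congrArg (fun p : k[X] => p.coeff ((N : ℤ) - i).toNat) hp
  simp only [finset_sum_coeff, coeff_monomial, coeff_zero] at h2
  rw [Finset.sum_eq_single i] at h2
  · simp at h2
    exact hi (by simpa using h2)
  · intro j hj hji
    rw [if_neg]
    intro he
    have := hN j hj
    have := hN i (Finsupp.mem_support_iff.2 (by simpa using hi))
    omega
  · intro h'
    simp [Finsupp.notMem_support_iff.1 h']

variable (k) in
/-- `L + L·y`, `L` the Laurent combinations. -/
def laur2 (t y : K) : (ℤ →₀ k) × (ℤ →₀ k) →ₗ[k] K :=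
  (laur k t).coprod ((LinearMap.mulRight k y).comp (laur k t))

theorem laur2_apply (t y : K) (α β : ℤ →₀ k) : laur2 k t y (α, β) = laur k t α + laur k t β * y := by
  simp [laur2]

theorem laur2_injective (h : Indep k t⁻¹ y1) (ht : t ≠ 0) : Function.Injective (laur2 k t y1) := by
  rw [injective_iff_map_eq_zero]
  rintro ⟨α, β⟩ e
  rw [laur2_apply] at e
  obtain ⟨N, hN, hN'⟩ : ∃ N : ℕ, (∀ i ∈ α.support, i ≤ N) ∧ ∀ i ∈ β.support, i ≤ N :=
    ⟨(α.support ∪ β.support).sup Int.toNat,
      fun i hi => (Int.self_le_toNat i).trans (by exact_mod_cast Finset.le_sup (Finset.mem_union_left _ hi)),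
      fun i hi => (Int.self_le_toNat i).trans (by exact_mod_cast Finset.le_sup (Finset.mem_union_right _ hi))⟩
  obtain ⟨p, hp⟩ := exists_inv_poly ht α N hN
  obtain ⟨r, hr⟩ := exists_inv_poly ht β N hN'
  obtain ⟨hp0, hr0⟩ := h p r (by rw [hp, hr, mul_assoc, ← mul_add, e, mul_zero])
  have hz : t⁻¹ ^ N ≠ 0 := pow_ne_zero _ (inv_ne_zero ht)
  rw [hp0, map_zero, eq_comm, mul_eq_zero] at hp
  rw [hr0, map_zero, eq_comm, mul_eq_zero] at hr
  exact Prod.ext (laur_injective h ht (by simpa using hp.resolve_left hz))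
    (laur_injective h ht (by simpa using hr.resolve_left hz))

/-- The transition between the two generators. -/
theorem Pair.exists_transition (h : Pair k t y0 y1) :
    ∃ (c : k) (j n : ℕ) (a : k[X]), c ≠ 0 ∧ t ^ n * y1 = aeval t a + c • t ^ j * y0 := by
  have ht := h.ne_zero
  obtain ⟨n, hn⟩ := h.h10
  obtain ⟨n', hn'⟩ := h.h01
  obtain ⟨a, u, hu⟩ := mem_span2.1 hn
  obtain ⟨b, v, hv⟩ := mem_span2.1 hn'
  have hB := aeval_reflect t ht (le_refl b.natDegree)
  have hV := aeval_reflect t ht (le_refl v.natDegree)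
  set B := reflect b.natDegree b
  set V := reflect v.natDegree v
  set db := b.natDegree
  set dv := v.natDegree
  have key : aeval t (X ^ (n' + n + dv) * B + X ^ (n' + db) * V * a) +
      aeval t (X ^ (n' + db) * V * u - X ^ (n + dv + db)) * y0 = 0 := by
    have h1 : t ^ n' * aeval t⁻¹ b + t ^ n' * aeval t⁻¹ v * y1 = y0 := by
      rw [mul_assoc, ← mul_add, hv, ← mul_assoc, ← mul_pow, mul_inv_cancel₀ ht, one_pow, one_mul]
    simp only [map_add, map_sub, map_mul, map_pow, aeval_X, hB, hV]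
    linear_combination (t ^ (n' + db) * t ^ dv * aeval t⁻¹ v) * hu + (t ^ (n + dv + db)) * h1
  have hu' : u ∣ X ^ (n + dv + db) := by
    refine ⟨X ^ (n' + db) * V, ?_⟩
    have := sub_eq_zero.1 (h.indep0 _ _ key).2
    rw [← this]
    ring
  obtain ⟨j, -, hj⟩ := (dvd_prime_pow Polynomial.prime_X _).1 hu'
  obtain ⟨w, hw⟩ := hj.symm
  obtain ⟨c, hc, hcw⟩ := Polynomial.isUnit_iff.1 w.isUnit
  refine ⟨c, j, n, a, hc.ne_zero, ?_⟩
  rw [← hu, ← hw, ← hcw, map_mul, map_pow, aeval_X, aeval_C, Algebra.smul_def]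
  ring

variable (k) in
/-- Sums of elements of the two rings. -/
def sum2 (t y0 y1 : K) : Submodule k K := span2 k t y0 ⊔ span2 k t⁻¹ y1

theorem span2_le_laur (ht : t ≠ 0) {y : K} (hy : y ∈ LinearMap.range (laur2 k t y1)) {s : K}
    (hs : s = t ∨ s = t⁻¹) : span2 k s y ≤ LinearMap.range (laur2 k t y1) := by
  rintro z hz
  obtain ⟨p, r, rfl⟩ := mem_span2.1 hz
  obtain ⟨⟨α, β⟩, rfl⟩ := hy
  have hmem : ∀ q : k[X], aeval s q ∈ LinearMap.range (laur k t) := by
    rcases hs with rfl | rfl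
    · exact aeval_mem _
    · exact aeval_inv_mem _
  obtain ⟨α', hα⟩ := add_mem (hmem p) (laur_mul_mem ht (hmem r) (LinearMap.mem_range_self _ α))
  obtain ⟨β', hβ⟩ := laur_mul_mem ht (hmem r) (LinearMap.mem_range_self _ β)
  exact ⟨(α', β'), by rw [laur2_apply, laur2_apply, hα, hβ]; ring⟩

/-- The sections over the overlap modulo the two rings. -/
theorem Pair.exists_quotient (h : Pair k t y0 y1) :
    ∃ (c : k) (j n : ℕ) (a : k[X]) (q : LinearMap.range (laur2 k t y1) →ₗ[k] (Fin ((n : ℤ) - j - 1).toNat → k)),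
      c ≠ 0 ∧ t ^ n * y1 = aeval t a + c • t ^ j * y0 ∧ Function.Surjective q ∧
      span2 k t y0 ≤ LinearMap.range (laur2 k t y1) ∧ span2 k t⁻¹ y1 ≤ LinearMap.range (laur2 k t y1) ∧
      ∀ z, q z = 0 ↔ (z : K) ∈ sum2 k t y0 y1 := by
  obtain ⟨c, j, n, a, hc, he⟩ := h.exists_transition
  have ht := h.ne_zero
  set m : ℤ := (n : ℤ) - j with hm
  have hy0 : y0 = c⁻¹ • t ^ m * y1 - c⁻¹ • (t ^ (-(j : ℤ)) * aeval t a) := by
    have hc' : algebraMap k K c ≠ 0 := fun e => hc ((algebraMap k K).injective (by rw [e, map_zero]))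
    rw [hm, zpow_sub₀ ht, zpow_natCast, zpow_natCast, zpow_neg, zpow_natCast]
    simp only [Algebra.smul_def, map_inv₀] at he ⊢
    field_simp
    linear_combination -he
  have hy0mem : y0 ∈ LinearMap.range (laur2 k t y1) := by
    obtain ⟨α, hα⟩ := Submodule.smul_mem _ (-c⁻¹) (laur_mul_mem ht (zpow_mem (k := k) t (-(j : ℤ))) (aeval_mem t a))
    refine ⟨(α, Finsupp.single m c⁻¹), ?_⟩
    rw [laur2_apply, hα, laur_single, hy0, neg_smul]
    ring
  have hy1mem : y1 ∈ LinearMap.range (laur2 k t y1) :=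
    ⟨(0, Finsupp.single 0 1), by rw [laur2_apply, map_zero, laur_single]; simp⟩
  let e := LinearEquiv.ofInjective (laur2 k t y1) (laur2_injective h.indep1 ht)
  let cf : (ℤ →₀ k) →ₗ[k] (Fin (m - 1).toNat → k) := LinearMap.pi fun i => Finsupp.lapply ((i : ℤ) + 1)
  let q : LinearMap.range (laur2 k t y1) →ₗ[k] (Fin (m - 1).toNat → k) :=
    cf ∘ₗ LinearMap.snd k _ _ ∘ₗ e.symm.toLinearMap
  have hq : ∀ α β, q (e (α, β)) = cf β := fun α β => by simp [q]
  refine ⟨c, j, n, a, q, hc, he, fun w => ?_, span2_le_laur ht hy0mem (Or.inl rfl),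
    span2_le_laur ht hy1mem (Or.inr rfl), fun z => ?_⟩
  · refine ⟨e (0, ∑ i : Fin (m - 1).toNat, Finsupp.single (((i : ℕ) : ℤ) + 1) (w i)), ?_⟩
    rw [hq]
    funext i
    show (∑ l : Fin (m - 1).toNat, Finsupp.single (((l : ℕ) : ℤ) + 1) (w l)) (((i : ℕ) : ℤ) + 1) = w i
    rw [Finsupp.finset_sum_apply, Finset.sum_eq_single i]
    · simp
    · intro l _ hl
      rw [Finsupp.single_eq_of_ne]
      exact fun e => hl (Fin.ext (by omega))
    · simp
  obtain ⟨⟨α, β⟩, rfl⟩ := e.surjective z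
  rw [hq]
  have hval : ((e (α, β) : LinearMap.range (laur2 k t y1)) : K) = laur k t α + laur k t β * y1 :=
    laur2_apply t y1 α β
  rw [hval]
  have hpos : ∀ i : ℕ, t ^ (i : ℤ) ∈ span2 k t y0 ∧ t ^ (-(i : ℤ)) ∈ span2 k t⁻¹ y1 := fun i =>
    ⟨mem_span2.2 ⟨X ^ i, 0, by simp⟩, mem_span2.2 ⟨X ^ i, 0, by simp⟩⟩
  have hL : ∀ γ : ℤ →₀ k, laur k t γ ∈ sum2 k t y0 y1 := fun γ => by
    induction γ using Finsupp.induction_linear with
    | zero => simp
    | add f g hf hg => rw [map_add]; exact add_mem hf hg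
    | single i b =>
      rw [laur_single]
      refine Submodule.smul_mem _ _ ?_
      obtain ⟨i, rfl | rfl⟩ := i.eq_nat_or_neg
      · exact Submodule.mem_sup_left (hpos i).1
      · exact Submodule.mem_sup_right (hpos i).2
  have hgen : ∀ i : ℤ, i ≤ 0 ∨ m ≤ i → t ^ i * y1 ∈ sum2 k t y0 y1 := by
    rintro i (hi | hi)
    · obtain ⟨l, rfl⟩ : ∃ l : ℕ, i = -(l : ℤ) := ⟨(-i).toNat, by omega⟩
      exact Submodule.mem_sup_right (mem_span2.2 ⟨0, X ^ l, by simp⟩)
    · obtain ⟨l, rfl⟩ : ∃ l : ℕ, i = m + l := ⟨(i - m).toNat, by omega⟩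
      have e1 : t ^ (m + (l : ℤ)) * y1 = c • (t ^ l * y0) + (t ^ l * (t ^ (-(j : ℤ)) * aeval t a)) := by
        rw [hy0, zpow_add₀ ht, zpow_natCast]
        simp only [Algebra.smul_def, map_inv₀]
        have hc' : algebraMap k K c ≠ 0 := fun e => hc ((algebraMap k K).injective (by rw [e, map_zero]))
        field_simp
        ring
      rw [e1]
      refine add_mem (Submodule.smul_mem _ _ (Submodule.mem_sup_left (mem_span2.2 ⟨0, X ^ l, by simp⟩))) ?_
      obtain ⟨γ, hγ⟩ := laur_mul_mem (k := k) ht (zpow_mem t (l : ℤ))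
        (laur_mul_mem ht (zpow_mem t (-(j : ℤ))) (aeval_mem t a))
      rw [← zpow_natCast, ← hγ]
      exact hL γ
  constructor
  · intro h0
    refine add_mem (hL α) ?_
    rw [← β.sum_single, Finsupp.sum, map_sum, Finset.sum_mul]
    refine sum_mem fun i hi => ?_
    rw [laur_single, smul_mul_assoc]
    refine Submodule.smul_mem _ _ (hgen i ?_)
    by_contra hcon
    refine Finsupp.mem_support_iff.1 hi ?_
    have hlt : (i - 1).toNat < (m - 1).toNat := by omega
    have := congrFun h0 ⟨(i - 1).toNat, hlt⟩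
    have he : (((i - 1).toNat : ℤ) + 1) = i := by omega
    change β (((i - 1).toNat : ℤ) + 1) = 0 at this
    rwa [he] at this
  · intro hz
    obtain ⟨z0, hz0, z1, hz1, hz⟩ := Submodule.mem_sup.1 hz
    obtain ⟨p, r, rfl⟩ := mem_span2.1 hz0
    obtain ⟨p', r', rfl⟩ := mem_span2.1 hz1
    let good : Submodule k (ℤ →₀ k) := LinearMap.ker cf
    obtain ⟨β0, hβ0, hβ0'⟩ : ∃ γ ∈ good, laur k t γ = c⁻¹ • (aeval t r * t ^ m) := by
      refine ⟨c⁻¹ • r.sum fun i b => Finsupp.single (m + i) b, Submodule.smul_mem _ _ ?_, ?_⟩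
      · refine Submodule.sum_mem _ fun i _ => LinearMap.mem_ker.2 (funext fun l => ?_)
        show Finsupp.single (m + (i : ℤ)) _ ((l : ℤ) + 1) = 0
        rw [Finsupp.single_eq_of_ne]
        have := l.2
        omega
      · rw [map_smul, Polynomial.sum, map_sum, aeval_eq_sum_range, Finset.sum_mul]
        congr 1
        rw [Finset.sum_subset (s₁ := r.support) (s₂ := Finset.range (r.natDegree + 1))
          (fun i hi => Finset.mem_range.2 (Nat.lt_succ_of_le (le_natDegree_of_mem_supp i hi)))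
          (fun i _ hi => by rw [notMem_support_iff.1 hi]; simp)]
        refine Finset.sum_congr rfl fun i _ => ?_
        rw [laur_single, zpow_add₀ ht, zpow_natCast, smul_mul_assoc, mul_comm]
    obtain ⟨β1, hβ1, hβ1'⟩ : ∃ γ ∈ good, laur k t γ = aeval t⁻¹ r' := by
      refine ⟨r'.sum fun i b => Finsupp.single (-(i : ℤ)) b, ?_, ?_⟩
      · refine Submodule.sum_mem _ fun i _ => LinearMap.mem_ker.2 (funext fun l => ?_)
        show Finsupp.single (-(i : ℤ)) _ ((l : ℤ) + 1) = 0
        rw [Finsupp.single_eq_of_ne]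
        omega
      · rw [Polynomial.sum, map_sum, aeval_eq_sum_range]
        rw [Finset.sum_subset (s₁ := r'.support) (s₂ := Finset.range (r'.natDegree + 1))
          (fun i hi => Finset.mem_range.2 (Nat.lt_succ_of_le (le_natDegree_of_mem_supp i hi)))
          (fun i _ hi => by rw [notMem_support_iff.1 hi]; simp)]
        refine Finset.sum_congr rfl fun i _ => ?_
        rw [laur_single, zpow_neg, zpow_natCast, inv_pow]
    obtain ⟨α', hα'⟩ := add_mem (add_mem (aeval_mem t p) (aeval_inv_mem t p')) (Submodule.smul_mem _ (-c⁻¹)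
      (laur_mul_mem ht (aeval_mem t r) (laur_mul_mem ht (zpow_mem (k := k) t (-(j : ℤ))) (aeval_mem t a))))
    have huniq : (α, β) = (α', β0 + β1) := laur2_injective h.indep1 ht (by
      rw [laur2_apply, laur2_apply, map_add, hβ0', hβ1', hα', ← hz, hy0]
      simp only [Algebra.smul_def, map_neg]
      ring)
    rw [show β = β0 + β1 from congrArg Prod.snd huniq]
    exact LinearMap.mem_ker.1 (add_mem hβ0 hβ1)

theorem Indep.of_shift {y y' : K} (h : Indep k t y) {c : k} (hc : c ≠ 0) {b : k[X]}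
    (hy : y' = c • y + aeval t b) : Indep k t y' := fun p r e => by
  obtain ⟨h1, h2⟩ := h (p + r * b) (C c * r) (by
    rw [← e, hy]
    simp only [map_add, map_mul, aeval_C, Algebra.smul_def]
    ring)
  have hr : r = 0 := (mul_eq_zero.1 h2).resolve_left (by simpa using hc)
  exact ⟨by simpa [hr] using h1, hr⟩

theorem span2_shift {y y' : K} {c : k} (hc : c ≠ 0) {b : k[X]} (hy : y' = c • y + aeval t b) :
    span2 k t y' = span2 k t y := by
  have hc' : algebraMap k K c ≠ 0 := fun e => hc ((algebraMap k K).injective (by rw [e, map_zero]))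
  ext z
  simp only [mem_span2]
  constructor
  · rintro ⟨p, r, rfl⟩
    exact ⟨p + r * b, C c * r, by rw [hy]; simp only [map_add, map_mul, aeval_C, Algebra.smul_def]; ring⟩
  · rintro ⟨p, r, rfl⟩
    refine ⟨p - C c⁻¹ * r * b, C c⁻¹ * r, ?_⟩
    rw [hy]
    simp only [map_sub, map_mul, aeval_C, Algebra.smul_def, map_inv₀]
    field_simp
    ring

theorem sq_shift {y y' : K} {c : k} {b : k[X]} (hy : y' = c • y + aeval t b) (h : y ^ 2 ∈ span2 k t y) :
    y' ^ 2 ∈ span2 k t y := by
  obtain ⟨p, r, hpr⟩ := mem_span2.1 h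
  refine mem_span2.2 ⟨C (c ^ 2) * p + b ^ 2, C (c ^ 2) * r + 2 * C c * b, ?_⟩
  rw [hy]
  simp only [map_add, map_mul, map_pow, map_ofNat, aeval_C, Algebra.smul_def]
  linear_combination (algebraMap k K c) ^ 2 * hpr

variable (k) in
/-- The second chart ring is integrally closed, as far as monic quadrics go. -/
def Normal2 (t y : K) : Prop :=
  ∀ (z : K) (a b : k[X]), z ^ 2 + aeval t a * z = aeval t b → z ∈ span2 k t y

/-- Degree bounds for the equation. -/
theorem bounds {m : ℕ} (hm : 1 ≤ m) (h0 : Indep k t y0) (h1 : Indep k t⁻¹ y1) (ht : t ≠ 0)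
    (hy : y0 = t ^ m * y1) (hsq : y1 ^ 2 ∈ span2 k t⁻¹ y1) (hn : Normal2 k t⁻¹ y1) {P Q : k[X]}
    (he : y0 ^ 2 + aeval t Q * y0 = aeval t P) :
    max (2 * Q.natDegree) P.natDegree ≤ 2 * m ∧ 2 * m - 1 ≤ max (2 * Q.natDegree) P.natDegree := by
  obtain ⟨a, b, hab⟩ := mem_span2.1 hsq
  have hB := aeval_reflect t ht (le_refl b.natDegree)
  have hA := aeval_reflect t ht (le_refl a.natDegree)
  have key : aeval t (X ^ (2 * m + b.natDegree) * reflect a.natDegree a -
      X ^ (b.natDegree + a.natDegree) * P) +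
      aeval t (X ^ (b.natDegree + a.natDegree) * Q + X ^ (m + a.natDegree) * reflect b.natDegree b) * y0 = 0 := by
    simp only [map_add, map_sub, map_mul, map_pow, aeval_X, hA, hB]
    rw [hy] at he ⊢
    linear_combination (t ^ (b.natDegree + a.natDegree)) * he +
      (t ^ (2 * m + b.natDegree + a.natDegree)) * hab
  obtain ⟨k1, k2⟩ := h0 _ _ key
  have hQ : aeval t Q = t ^ m * aeval t⁻¹ (-b) := by
    have := congrArg (aeval t) k2
    simp only [map_add, map_mul, map_pow, aeval_X, hB, map_zero] at this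
    refine mul_left_cancel₀ (pow_ne_zero (b.natDegree + a.natDegree) ht) ?_
    rw [map_neg]
    linear_combination this
  have hP : aeval t P = t ^ (2 * m) * aeval t⁻¹ a := by
    have := congrArg (aeval t) k1
    simp only [map_sub, map_mul, map_pow, aeval_X, hA, map_zero] at this
    refine mul_left_cancel₀ (pow_ne_zero (b.natDegree + a.natDegree) ht) ?_
    linear_combination -this
  have h2 := natDegree_le_of_aeval_eq h0 ht hQ
  have h3 := natDegree_le_of_aeval_eq h0 ht hP
  refine ⟨max_le (by omega) h3, ?_⟩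
  by_contra hlt
  push Not at hlt
  obtain ⟨hq2, hp2⟩ := max_lt_iff.1 hlt
  have hQ' := aeval_reflect t⁻¹ (inv_ne_zero ht) (show Q.natDegree ≤ m - 1 by omega)
  have hP' := aeval_reflect t⁻¹ (inv_ne_zero ht) (show P.natDegree ≤ 2 * m - 2 by omega)
  rw [inv_inv] at hQ' hP'
  have hz : t * y1 ∈ span2 k t⁻¹ y1 := by
    refine hn (t * y1) (reflect (m - 1) Q) (reflect (2 * m - 2) P) ?_
    rw [hQ', hP']
    obtain ⟨l, rfl⟩ := Nat.exists_eq_add_of_le' hm
    rw [show 2 * (l + 1) - 2 = 2 * l by omega, Nat.add_sub_cancel, inv_pow, inv_pow]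
    rw [hy] at he
    field_simp
    linear_combination t ^ l * he
  obtain ⟨p, r, hpr⟩ := mem_span2.1 hz
  obtain ⟨-, hr⟩ := h1 (X * p) (X * r - 1) (by
    simp only [map_mul, aeval_X, map_sub, map_one]
    have : t⁻¹ * t = 1 := inv_mul_cancel₀ ht
    linear_combination t⁻¹ * hpr + y1 * this)
  have := congrArg (fun p : k[X] => p.coeff 0) hr
  simp at this

/-- Normal form of the equation, given the size of the gluing exponent. -/
theorem Pair.normal_form (h : Pair k t y0 y1) (hn : Normal2 k t⁻¹ y1) {c : k} {j n : ℕ} {a : k[X]} (hc : c ≠ 0)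
    (he : t ^ n * y1 = aeval t a + c • t ^ j * y0) {g : ℕ} (hg : 1 ≤ g) (hgm : ((n : ℤ) - j - 1).toNat = g) :
    ∃ (y : K) (P Q : k[X]), span2 k t y = span2 k t y0 ∧ Indep k t y ∧
      y ^ 2 + aeval t Q * y = aeval t P ∧
      2 * g + 1 ≤ max (2 * Q.natDegree) P.natDegree ∧ max (2 * Q.natDegree) P.natDegree ≤ 2 * g + 2 ∧
      (ringChar k ≠ 2 → ∃ (y' : K) (P' : k[X]), span2 k t y' = span2 k t y0 ∧
        y' ^ 2 = aeval t P' ∧ 2 * g + 1 ≤ P'.natDegree ∧ P'.natDegree ≤ 2 * g + 2) := by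
  have ht := h.ne_zero
  have hjn : j + (g + 1) = n := by omega
  have hXj : (X ^ j : k[X]).Monic := monic_X_pow j
  set a1 := a %ₘ X ^ j
  set a2 := a /ₘ X ^ j
  have hdiv : a1 + X ^ j * a2 = a := modByMonic_add_div a (X ^ j)
  have hdeg : a1.natDegree ≤ n := by
    rcases Nat.eq_zero_or_pos j with h0 | h0
    · simp [a1, h0, modByMonic_one]
    · exact (natDegree_modByMonic_lt a hXj (fun e => by
        have := congrArg natDegree e; simp at this; omega)).le.trans (by simp; omega)
  have hr1 := aeval_reflect t⁻¹ (inv_ne_zero ht) hdeg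
  rw [inv_inv] at hr1
  set y := c • y0 + aeval t a2
  set z := y1 - aeval t⁻¹ (reflect n a1)
  have hyz : y = t ^ (g + 1) * z := by
    have he' := he
    rw [← hdiv, map_add, map_mul, map_pow, aeval_X] at he'
    simp only [z, y, hr1]
    rw [← hjn] at he' ⊢
    refine mul_left_cancel₀ (pow_ne_zero j ht) ?_
    rw [inv_pow]
    simp only [Algebra.smul_def, mul_sub] at he' ⊢
    field_simp
    linear_combination -(t ^ (g + 1)) * he'
  have hi0 : Indep k t y := h.indep0.of_shift hc rfl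
  have hzs : z = (1 : k) • y1 + aeval t⁻¹ (-reflect n a1) := by simp [z, sub_eq_add_neg]
  have hi1 : Indep k t⁻¹ z := h.indep1.of_shift one_ne_zero hzs
  have hs0 : span2 k t y = span2 k t y0 := span2_shift hc rfl
  have hs1 : span2 k t⁻¹ z = span2 k t⁻¹ y1 := span2_shift one_ne_zero hzs
  have hn' : Normal2 k t⁻¹ z := fun w p r e => hs1 ▸ hn w p r e
  have hsq1 : z ^ 2 ∈ span2 k t⁻¹ z := hs1 ▸ sq_shift hzs h.sq1
  obtain ⟨P, R, hPR⟩ := mem_span2.1 (hs0 ▸ sq_shift (rfl : y = _) h.sq0 : y ^ 2 ∈ span2 k t y)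
  have heq : y ^ 2 + aeval t (-R) * y = aeval t P := by rw [map_neg, ← hPR]; ring
  obtain ⟨hb1, hb2⟩ := bounds (Nat.le_add_left 1 g) hi0 hi1 ht hyz hsq1 hn' heq
  refine ⟨y, P, -R, hs0, hi0, heq, by omega, by omega, fun h2 => ?_⟩
  have two : (2 : k) ≠ 0 := Ring.two_ne_zero h2
  have hRd : R.natDegree ≤ g + 1 := by rw [natDegree_neg] at hb1; omega
  set H := C (2⁻¹ : k) * R
  have hH : H.natDegree ≤ g + 1 := (natDegree_C_mul_le _ _).trans hRd
  set y' := (1 : k) • y + aeval t (-H) with hy'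
  set z' := (1 : k) • z + aeval t⁻¹ (-reflect (g + 1) H) with hz'
  have hrH := aeval_reflect t⁻¹ (inv_ne_zero ht) hH
  rw [inv_inv] at hrH
  have hyz' : y' = t ^ (g + 1) * z' := by
    simp only [y', z', one_smul, map_neg, hyz, hrH, inv_pow]
    field_simp
  have hi0' : Indep k t y' := hi0.of_shift one_ne_zero hy'
  have hi1' : Indep k t⁻¹ z' := hi1.of_shift one_ne_zero hz'
  have hs1' : span2 k t⁻¹ z' = span2 k t⁻¹ z := span2_shift one_ne_zero hz'
  have hn'' : Normal2 k t⁻¹ z' := fun w p r e => hs1' ▸ hn' w p r e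
  have heq' : y' ^ 2 + aeval t (0 : k[X]) * y' = aeval t (P + H ^ 2) := by
    have hH2 : aeval t R = 2 * aeval t H := by
      simp only [H, map_mul, aeval_C, map_inv₀, map_ofNat]
      have : (2 : K) ≠ 0 := by
        rw [← map_ofNat (algebraMap k K)]
        exact fun e => two ((algebraMap k K).injective (by rw [e, map_zero]))
      field_simp
    simp only [y', one_smul, map_neg, map_add, map_pow, map_zero, zero_mul, add_zero]
    rw [map_neg, hH2] at heq
    linear_combination heq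
  obtain ⟨hc1, hc2⟩ := bounds (Nat.le_add_left 1 g) hi0' hi1' ht hyz'
    (hs1' ▸ sq_shift hz' hsq1) hn'' heq'
  refine ⟨y', P + H ^ 2, (span2_shift one_ne_zero hy').trans hs0, ?_, ?_, ?_⟩
  · simpa using heq'
  · simp at hc2; omega
  · simp at hc1; omega

end Groth.Agent.HyperellLib
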