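import Groth.Agent.HyperellLib.CechTwo
import Groth.Agent.HyperellLib.Core
import Groth.Agent.CurveVA.Converse
import Groth.Agent.H23.PnChart
import Groth.Agent.H23.CoverPush
import Groth.Agent.RegLoc6.Normal
import Groth.Agent.SmoothReg.Scheme
import Groth.Agent.S9821
import Groth.Prelude.Def_LefPen
import Groth.Prelude.Def_CurvBase

/-!
A finite map of a normal integral curve to the projective line, seen in the function field.
-/

set_option linter.style.haveILetI false
set_option linter.unusedSectionVars false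
set_option backward.isDefEq.respectTransparency false
set_option backward.isDefEq.respectTransparency.types false

universe u

open CategoryTheory CategoryTheory.Limits AlgebraicGeometry TopologicalSpace Opposite
open HomogeneousLocalization (Away)
attribute [local instance] Curv2.stalkAlgebra

noncomputable section

namespace Groth.Agent.HyperellLib

open Groth.Agent Groth.Agent.H23

section Line

variable (k : Type u) [Field k]

local notation "𝒜" => CohB1.polyGrading 1 k
local notation "T" => (MvPolynomial.X : Fin (1 + 1) → MvPolynomial (Fin (1 + 1)) k)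

/-- The projective line. -/
abbrev P1 : Scheme.{u} := CohB1.ProjSpace 1 k

instance : IsIntegral (P1 k) := PnChart.isIntegral_projSpace 1 k

instance : IsIntegral (CohB1.ProjSpace 1 k) := PnChart.isIntegral_projSpace 1 k

/-- The standard charts. -/
abbrev D (i : Fin 2) : (P1 k).Opens := LefPen.chart 1 k i

/-- The chart coordinate `T_{1-i}/T_i`. -/
def coordX (i : Fin 2) : Γ(P1 k, D k i) :=
  (Proj.awayToSection 𝒜 (T i)).hom (ZetaLib.coord 1 k i (1 - i))

/-- The constants on a chart. -/
def constX (i : Fin 2) : k →+* Γ(P1 k, D k i) :=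
  (Proj.awayToSection 𝒜 (T i)).hom.comp (ZetaLib.base 1 k i)

theorem constX_eq (i : Fin 2) (c : k) :
    constX k i c = (P1 k).presheaf.map (homOfLE le_top).op
      (Coh.toGlobal (CohB1.ProjSpace.toSpec 1 k) c) :=
  (CurveVA.toSpec_appLE_chart 1 k i c).symm

/-- Polynomials in the chart coordinate. -/
def polyX (i : Fin 2) : Polynomial k →+* Γ(P1 k, D k i) := Polynomial.eval₂RingHom (constX k i) (coordX k i)

theorem isAffineOpen_D (i : Fin 2) : IsAffineOpen (D k i) :=
  Proj.isAffineOpen_basicOpen 𝒜 (T i) (ZetaLib.X_mem_one 1 k i) one_pos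

theorem polyX_bijective (i : Fin 2) : Function.Bijective (polyX k i) := by
  let e : MvPolynomial (PnChart.Idx.{u} 1 i) k →+* Γ(P1 k, D k i) :=
    (Proj.awayToSection 𝒜 (T i)).hom.comp (PnChart.fromChart 1 k i)
  haveI : IsIso (Proj.awayToSection 𝒜 (T i)) :=
    inferInstanceAs (IsIso (Proj.basicOpenIsoAway 𝒜 (T i) (ZetaLib.X_mem_one 1 k i) Nat.one_pos).hom)
  have he : Function.Bijective e :=
    (ConcreteCategory.bijective_of_isIso (Proj.awayToSection 𝒜 (T i))).comp
      ⟨PnChart.fromChart_injective 1 k i, PnChart.fromChart_surjective 1 k i⟩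
  let v : PnChart.Idx.{u} 1 i := ⟨⟨1 - i, by fin_cases i <;> decide⟩⟩
  haveI : Unique (PnChart.Idx.{u} 1 i) := ⟨⟨v⟩, fun a => by
    rcases a with ⟨⟨a, ha⟩⟩
    refine ULift.ext _ _ (Subtype.ext ?_)
    show a = 1 - i
    fin_cases i <;> fin_cases a <;> simp at ha ⊢⟩
  let g : Polynomial k →+* MvPolynomial (PnChart.Idx.{u} 1 i) k :=
    (MvPolynomial.uniqueAlgEquiv k (PnChart.Idx.{u} 1 i)).symm.toRingEquiv.toRingHom
  have hg : polyX k i = e.comp g := by
    refine Polynomial.ringHom_ext (fun c => ?_) ?_
    · have h1 : g (Polynomial.C c) = MvPolynomial.C c :=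
        (MvPolynomial.uniqueAlgEquiv k (PnChart.Idx.{u} 1 i)).symm.commutes c
      rw [RingHom.comp_apply, h1]
      show _ = (Proj.awayToSection 𝒜 (T i)).hom (PnChart.fromChart 1 k i (MvPolynomial.C c))
      rw [PnChart.fromChart, MvPolynomial.eval₂Hom_C,
        polyX, Polynomial.coe_eval₂RingHom, Polynomial.eval₂_C]
      rfl
    · have h1 : g Polynomial.X = MvPolynomial.X v := by
        show (MvPolynomial.uniqueAlgEquiv k (PnChart.Idx.{u} 1 i)).symm Polynomial.X = _
        rw [Subsingleton.elim v default]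
        simp
      rw [RingHom.comp_apply, h1]
      show _ = (Proj.awayToSection 𝒜 (T i)).hom (PnChart.fromChart 1 k i (MvPolynomial.X v))
      rw [PnChart.fromChart, MvPolynomial.eval₂Hom_X',
        polyX, Polynomial.coe_eval₂RingHom, Polynomial.eval₂_X]
      rfl
  rw [hg]
  exact he.comp (MvPolynomial.uniqueAlgEquiv k (PnChart.Idx.{u} 1 i)).symm.bijective

/-- The fraction `T_{1-i}/T_i` at a point. -/
def frac (i : Fin 2) (y : P1 k) (hy : y ∈ D k i) :
    HomogeneousLocalization.NumDenSameDeg 𝒜 y.asHomogeneousIdeal.toIdeal.primeCompl :=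
  ⟨1, ⟨T (1 - i), ZetaLib.X_mem_one 1 k _⟩, ⟨T i, ZetaLib.X_mem_one 1 k i⟩, hy⟩

theorem germ_coordX (i : Fin 2) (y : P1 k) (hy : y ∈ D k i) :
    (P1 k).presheaf.germ (D k i) y hy (coordX k i) =
      (Proj.stalkIso' 𝒜 y).symm (HomogeneousLocalization.mk (frac k i y hy)) := by
  refine (congr($(ProjectiveSpectrum.Proj.awayToSection_germ 𝒜 (T i) y hy) (ZetaLib.coord 1 k i (1 - i)))).trans ?_
  rw [CommRingCat.comp_apply]
  refine congrArg (Proj.stalkIso' 𝒜 y).symm (HomogeneousLocalization.val_injective _ ?_)
  simp [ZetaLib.coord, frac, HomogeneousLocalization.Away.mk, HomogeneousLocalization.mapId,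
    HomogeneousLocalization.map_mk, HomogeneousLocalization.val_mk]

/-- The intersection of the charts inside one of them. -/
theorem basicOpen_coordX (i : Fin 2) : (P1 k).basicOpen (coordX k i) = D k i ⊓ D k (1 - i) := by
  have hne : ∀ y, ∀ hy : y ∈ D k i, IsUnit ((P1 k).presheaf.germ (D k i) y hy (coordX k i)) ↔ y ∈ D k (1 - i) := by
    intro y hy
    rw [germ_coordX]
    have : IsUnit ((Proj.stalkIso' 𝒜 y).symm (HomogeneousLocalization.mk (frac k i y hy))) ↔
        IsUnit (HomogeneousLocalization.mk (frac k i y hy)) :=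
      ⟨fun h => by have := h.map (Proj.stalkIso' 𝒜 y); rwa [RingEquiv.apply_symm_apply] at this,
        fun h => h.map (Proj.stalkIso' 𝒜 y).symm⟩
    rw [this, ← HomogeneousLocalization.isUnit_iff_isUnit_val, HomogeneousLocalization.val_mk,
      Localization.mk_eq_mk', IsLocalization.AtPrime.isUnit_mk'_iff _ y.asHomogeneousIdeal.toIdeal]
    exact Iff.rfl
  ext y
  constructor
  · intro h
    have hy := (P1 k).basicOpen_le (coordX k i) h
    exact ⟨hy, (hne y hy).1 (((P1 k).mem_basicOpen _ y hy).1 h)⟩
  · rintro ⟨hy, hy'⟩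
    exact ((P1 k).mem_basicOpen _ y hy).2 ((hne y hy).2 hy')

theorem genericPoint_mem_D (i : Fin 2) : genericPoint (P1 k) ∈ D k i := by
  refine ((genericPoint_spec (P1 k)).mem_open_set_iff (D k i).isOpen).mpr ?_
  obtain ⟨x, hx⟩ : (D k i : Set (P1 k)).Nonempty := by
    by_contra h
    have hbot : D k i = ⊥ := Opens.ext (Set.not_nonempty_iff_eq_empty.1 h)
    haveI : Subsingleton Γ(P1 k, D k i) := by rw [hbot]; infer_instance
    exact zero_ne_one (α := Polynomial k) ((polyX_bijective k i).1 (Subsingleton.elim _ _))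
  exact ⟨x, trivial, hx⟩

theorem coordX_mul :
    (P1 k).presheaf.germ (D k 0) _ (genericPoint_mem_D k 0) (coordX k 0) *
      (P1 k).presheaf.germ (D k 1) _ (genericPoint_mem_D k 1) (coordX k 1) = 1 := by
  rw [germ_coordX, germ_coordX]
  refine (map_mul (Proj.stalkIso' 𝒜 (genericPoint (P1 k))).symm _ _).symm.trans ?_
  refine (congrArg _ (HomogeneousLocalization.val_injective _ ?_)).trans (map_one _)
  simp [frac, HomogeneousLocalization.val_mk, Localization.mk_mul]
  rw [← Localization.mk_one, Localization.mk_eq_mk_iff, Localization.r_iff_exists]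
  exact ⟨1, by simp; ring⟩

end Line

variable (k : Type u) [Field k] {C : Scheme.{u}} [C.Over (Spec (CommRingCat.of k))] [IsIntegral C]
  (f : C ⟶ CohB1.ProjSpace 1 k) (hf : f ≫ CohB1.ProjSpace.toSpec 1 k = C ↘ Spec (CommRingCat.of k))
  [IsFinite f] (hη : f (genericPoint C) = genericPoint (CohB1.ProjSpace 1 k))

/-- The chart upstairs. -/
abbrev U (i : Fin 2) : C.Opens := f ⁻¹ᵁ D k i

include hη in
theorem genericPoint_mem_U (i : Fin 2) : genericPoint C ∈ U k f i := by
  show f (genericPoint C) ∈ D k i
  rw [hη]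
  exact genericPoint_mem_D k i

/-- Sections of a chart in the function field. -/
def fn (i : Fin 2) : Γ(C, U k f i) →+* C.functionField :=
  (C.presheaf.germ (U k f i) (genericPoint C) (genericPoint_mem_U k f hη i)).hom

theorem fn_injective (i : Fin 2) : Function.Injective (fn k f hη i) :=
  germ_injective_of_isIntegral (X := C) (genericPoint C) (genericPoint_mem_U k f hη i)

/-- The coordinate of a chart in the function field. -/
def par (i : Fin 2) : C.functionField := fn k f hη i (f.app (D k i) (coordX k i))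

theorem fn_app_germ (i : Fin 2) (z : Γ(P1 k, D k i)) :
    fn k f hη i (f.app (D k i) z) = f.stalkMap (genericPoint C)
      ((P1 k).presheaf.germ (D k i) (f (genericPoint C)) (genericPoint_mem_U k f hη i) z) :=
  (Scheme.Hom.germ_stalkMap_apply f (D k i) (genericPoint C) _ z).symm

include hf in
theorem app_const (i : Fin 2) (c : k) :
    f.app (D k i) (constX k i c) =
      C.presheaf.map (homOfLE (le_top : U k f i ≤ ⊤)).op (Coh.toGlobal (C ↘ Spec (CommRingCat.of k)) c) := by
  rw [constX_eq, ← hf]
  exact congr($(f.naturality (homOfLE le_top).op) (Coh.toGlobal (CohB1.ProjSpace.toSpec 1 k) c))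

include hf in
theorem fn_poly (i : Fin 2) (p : Polynomial k) :
    fn k f hη i (f.app (D k i) (polyX k i p)) = Polynomial.aeval (par k f hη i) p := by
  have h : ((fn k f hη i).comp (f.app (D k i)).hom).comp (polyX k i) =
      (Polynomial.aeval (par k f hη i)).toRingHom := by
    refine Polynomial.ringHom_ext (fun c => ?_) ?_
    · show fn k f hη i (f.app (D k i) (polyX k i (Polynomial.C c))) = Polynomial.aeval _ (Polynomial.C c)
      rw [Polynomial.aeval_C, polyX, Polynomial.coe_eval₂RingHom, Polynomial.eval₂_C, app_const k f hf]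
      exact C.presheaf.germ_res_apply _ _ _ _
    · show fn k f hη i (f.app (D k i) (polyX k i Polynomial.X)) = Polynomial.aeval _ Polynomial.X
      rw [Polynomial.aeval_X, polyX, Polynomial.coe_eval₂RingHom, Polynomial.eval₂_X]
      rfl
  exact RingHom.congr_fun h p

include hη in
theorem app_injective (i : Fin 2) : Function.Injective (f.app (D k i)).hom := fun a b e => by
  have h := congrArg (fn k f hη i) e
  rw [fn_app_germ, fn_app_germ] at h
  have : IsField ((P1 k).presheaf.stalk (f (genericPoint C))) := by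
    rw [hη]; exact Field.toIsField (P1 k).functionField
  letI := this.toField
  exact germ_injective_of_isIntegral (X := P1 k) (f (genericPoint C)) (genericPoint_mem_U k f hη i)
    ((f.stalkMap (genericPoint C)).hom.injective h)

theorem par_mul : par k f hη 0 * par k f hη 1 = 1 := by
  rw [par, par, fn_app_germ, fn_app_germ, ← map_mul]
  refine (congrArg _ ?_).trans (map_one _)
  have key : ∀ (y : P1 k) (_ : y = genericPoint (P1 k)) (h0 : y ∈ D k 0) (h1 : y ∈ D k 1),
      (P1 k).presheaf.germ (D k 0) y h0 (coordX k 0) * (P1 k).presheaf.germ (D k 1) y h1 (coordX k 1) = 1 := by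
    rintro y rfl h0 h1
    exact coordX_mul k
  exact key _ hη _ _

theorem par_ne_zero (i : Fin 2) : par k f hη i ≠ 0 := fun e => by
  have h := par_mul k f hη
  fin_cases i
  · simp [show par k f hη 0 = 0 from e] at h
  · simp [show par k f hη 1 = 0 from e] at h

theorem par_one : par k f hη 1 = (par k f hη 0)⁻¹ :=
  eq_inv_of_mul_eq_one_right (par_mul k f hη)

theorem basicOpen_app (i : Fin 2) : C.basicOpen (f.app (D k i) (coordX k i)) = U k f i ⊓ U k f (1 - i) := by
  rw [← Scheme.preimage_basicOpen, basicOpen_coordX]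
  rfl

/-- Sections on the overlap are fractions of sections on a chart. -/
theorem exists_pow_mul (i : Fin 2) (W : C.Opens) (hW : W = U k f i ⊓ U k f (1 - i))
    (hg : genericPoint C ∈ W) (z : Γ(C, W)) :
    ∃ (n : ℕ) (a : Γ(C, U k f i)),
      par k f hη i ^ n * C.presheaf.germ W (genericPoint C) hg z = fn k f hη i a := by
  rw [← basicOpen_app] at hW
  subst hW
  have hU : IsAffineOpen (U k f i) := (isAffineOpen_D k i).preimage f
  letI := (C.presheaf.map (homOfLE (C.basicOpen_le (f.app (D k i) (coordX k i)))).op).hom.toAlgebra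
  haveI := hU.isLocalization_basicOpen (f.app (D k i) (coordX k i))
  obtain ⟨⟨a, ⟨_, n, rfl⟩⟩, h⟩ := IsLocalization.surj (Submonoid.powers (f.app (D k i) (coordX k i))) z
  refine ⟨n, a, ?_⟩
  have h2 := congrArg (C.presheaf.germ (C.basicOpen (f.app (D k i) (coordX k i))) (genericPoint C) hg) h
  simp only [RingHom.algebraMap_toAlgebra, map_mul] at h2
  rw [mul_comm]
  refine Eq.trans ?_ (h2.trans (C.presheaf.germ_res_apply _ _ _ a))
  refine congrArg _ ?_
  refine Eq.trans ?_ (C.presheaf.germ_res_apply _ _ _ _).symm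
  exact (map_pow (fn k f hη i) _ n).symm

include hη in
/-- The curve is normal. -/
theorem isIntegrallyClosed_sections [Smooth (C ↘ Spec (CommRingCat.of k))] (i : Fin 2) :
    IsIntegrallyClosed Γ(C, U k f i) := by
  haveI : Nonempty (U k f i) := ⟨⟨genericPoint C, genericPoint_mem_U k f hη i⟩⟩
  refine (S9821.result C).1 (fun x => ⟨inferInstance, ?_⟩) _ ((isAffineOpen_D k i).preimage f)
  haveI := SmoothReg.isRegularLocalRing_stalk_of_mem_smoothLocus (C ↘ Spec (CommRingCat.of k))
    (show x ∈ (C ↘ Spec (CommRingCat.of k)).smoothLocus by rw [Scheme.Hom.smoothLocus_eq_top]; trivial)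
  exact RegLoc6.isIntegrallyClosed_of_isRegularLocalRing _

end Groth.Agent.HyperellLib
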